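import Mathlib
import Cfsg.Agent.BaumannBlock.CentModule.Isolation
import Cfsg.Agent.S0215
import Cfsg.Agent.S0216
import Cfsg.Agent.Coprime44.InvariantSylow
import Cfsg.Agent.Inverted44.CenterThompson

/-!
The products of conjugates of the central involution generate a `3`-group on the section: Glauberman's
`Z*`-theorem gives an odd normal subgroup, and its invariant Sylow subgroups for primes other than three
centralize the involution.
-/

set_option autoImplicit false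

open scoped MatrixGroups commutatorElement

namespace CfsgLib.BaumannBlock.CentModule

open Cfsg

/-- If distinct conjugates of an involution never commute, the product of two conjugates has odd order. -/
theorem odd_orderOf_mul_conj {X : Type*} [Group X] [Finite X] {u : X} (hu : u * u = 1)
    (hiso : ∀ g : X, Commute (g * u * g⁻¹) u → g * u * g⁻¹ = u) (g : X) :
    Odd (orderOf (u * (g * u * g⁻¹))) := by
  obtain ⟨v, hv⟩ : ∃ v, v = g * u * g⁻¹ := ⟨_, rfl⟩
  rw [← hv]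
  have hvv : v * v = 1 := by rw [hv, conj_mul, hu, mul_one, mul_inv_cancel]
  set y := u * v with hy
  have huinv : u⁻¹ = u := inv_eq_of_mul_eq_one_left hu
  have hvinv : v⁻¹ = v := inv_eq_of_mul_eq_one_left hvv
  have huy : u * y * u⁻¹ = y⁻¹ := by
    rw [hy, mul_inv_rev u v, hvinv, huinv, ← mul_assoc, hu, one_mul]
  have hvy : v * y * v⁻¹ = y⁻¹ := by
    rw [hy, mul_inv_rev u v, hvinv, huinv, mul_assoc, mul_assoc, hvv, mul_one]
  by_contra h
  obtain ⟨m, hm⟩ := Nat.not_odd_iff_even.1 h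
  set j := y ^ m with hj
  have hj2 : j * j = 1 := by rw [hj, ← pow_add, ← hm, pow_orderOf_eq_one]
  have hj1 : j ≠ 1 := pow_ne_one_of_lt_orderOf (by
    have := orderOf_pos y; omega) (by have := orderOf_pos y; omega)
  have hjinv : j⁻¹ = j := inv_eq_of_mul_eq_one_left hj2
  have huj : u * j * u⁻¹ = j := by
    rw [hj, ← conj_pow, huy, inv_pow, ← hj, hjinv]
  have hcomm : Commute (u * j) u := by
    show u * j * u = u * (u * j)
    rw [← mul_assoc u u j, hu, one_mul]
    nth_rw 2 [← huinv]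
    exact huj
  have key : ∀ (w : X) (i : ℕ), w * y * w⁻¹ = y⁻¹ → (y ^ i)⁻¹ * w * y ^ i = w * y ^ (2 * i) := by
    intro w i hw
    have h1 : w * y ^ i * w⁻¹ = (y ^ i)⁻¹ := by rw [← conj_pow, hw, inv_pow]
    rw [← h1, two_mul, pow_add]
    group
  obtain ⟨x, hx⟩ : ∃ x : X, x * u * x⁻¹ = u * j := by
    rcases Nat.even_or_odd m with ⟨i, rfl⟩ | ⟨i, rfl⟩
    · refine ⟨(y ^ i)⁻¹, ?_⟩
      rw [inv_inv, key u i huy, hj, two_mul]
    · refine ⟨(y ^ i)⁻¹ * g, ?_⟩
      rw [show (y ^ i)⁻¹ * g * u * ((y ^ i)⁻¹ * g)⁻¹ = (y ^ i)⁻¹ * v * y ^ i by rw [hv]; group, key v i hvy,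
        hj, pow_succ', ← mul_assoc u y, hy, ← mul_assoc u u v, hu, one_mul]
  exact hj1 (mul_eq_left.1 (hx ▸ hiso x (hx ▸ hcomm)))

variable {G : Type*} [Group G] {E B : Subgroup G} {F : Type} [Field F] (D : Exc E B F)

namespace Exc

/-- The group acting on the section with the involution in it. -/
def L : Subgroup G := E ⊔ D.C2

theorem E_le_normalizer_C2 : E ≤ Subgroup.normalizer (D.C2 : Set G) := D.E_norm_U.trans D.normalizer_U_le_C2

theorem E_le_KO : E ≤ D.KO := fun f hf o ho => by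
  have := inv_mem (D.OE o ho f hf)
  rw [commutatorElement_inv, commutatorElement_def] at this
  exact D.Q_le_R this

theorem L_le_L0 : D.L ≤ D.L0 := sup_le D.E_le_L0 fun _ h => (D.mem_C2.1 h).2.1

theorem L_le_KO : D.L ≤ D.KO := sup_le D.E_le_KO fun _ h => (D.mem_C2.1 h).2.2

theorem mem_L {l : G} (h : l ∈ D.L) : ∃ c ∈ D.C2, ∃ e ∈ E, l = c * e := by
  rw [Exc.L, sup_comm, ← SetLike.mem_coe,
    Subgroup.coe_mul_of_right_le_normalizer_left D.C2 E D.E_le_normalizer_C2] at h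
  obtain ⟨c, hc, e, he, rfl⟩ := h
  exact ⟨c, hc, e, he, rfl⟩

theorem t_mem_L : D.t ∈ D.L := Subgroup.mem_sup_left D.t_mem

theorem τ_sq : D.τ * D.τ = 1 := MulEquiv.ext fun a => D.τ_apply a

theorem τ_ne_one : D.τ ≠ 1 := by
  haveI := D.char3
  intro h
  obtain ⟨p, hp⟩ := D.ψP_bij.2 (Multiplicative.ofAdd ![1, 0])
  have h1 := D.τ_of_mem_P p.2
  rw [h, MulAut.one_apply] at h1
  have hp1 : p = 1 := Subtype.ext (D.ab_eq_one_of_sq (mul_eq_one_iff_eq_inv.2 h1))
  rw [hp1, map_one] at hp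
  exact one_ne_zero (α := F) (congrFun (congrArg Multiplicative.toAdd hp) 0).symm

theorem iso_L [Finite G] [Finite F] (g : MulAut D.Ab) (hg : g ∈ D.L.map D.act)
    (h : Commute (g * D.τ * g⁻¹) D.τ) : g * D.τ * g⁻¹ = D.τ := by
  obtain ⟨l, hl, rfl⟩ := hg
  obtain ⟨c, hc, e, he, rfl⟩ := D.mem_L hl
  have he' : D.act e * D.τ * (D.act e)⁻¹ = D.τ := by
    rw [(D.act_commute_E ⟨e, he⟩).eq, mul_inv_cancel_right]
  have h1 : D.act (c * e) * D.τ * (D.act (c * e))⁻¹ = D.act (c * D.t * c⁻¹) := by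
    rw [map_mul, mul_inv_rev, map_mul, map_mul, map_inv,
      show D.act c * D.act e * D.τ * ((D.act e)⁻¹ * (D.act c)⁻¹) =
        D.act c * (D.act e * D.τ * (D.act e)⁻¹) * (D.act c)⁻¹ by group, he']
    rfl
  rw [h1] at h ⊢
  exact D.eq_of_commute (D.mem_C2.1 hc).1 h

/-- The odd normal subgroup given by the `Z*`-theorem. -/
theorem exists_odd_normal [Finite G] [Finite F] :
    ∃ N : Subgroup (MulAut D.Ab), N ≤ D.L.map D.act ∧ D.L.map D.act ≤ Subgroup.normalizer (N : Set (MulAut D.Ab)) ∧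
      Odd (Nat.card N) ∧ ∀ l ∈ D.L.map D.act, D.τ * l * D.τ⁻¹ * l⁻¹ ∈ N := by
  haveI : Finite (MulAut D.Ab) := Finite.of_injective (fun f : MulAut D.Ab => (f : D.Ab → D.Ab)) DFunLike.coe_injective
  haveI : Fact (Nat.Prime 2) := ⟨Nat.prime_two⟩
  set L' := D.L.map D.act with hL'
  let u : L' := ⟨D.τ, D.t, D.t_mem_L, rfl⟩
  have huu : u * u = 1 := Subtype.ext D.τ_sq
  have hu2 : orderOf u = 2 := orderOf_eq_prime (by rw [pow_two, huu]) fun h => D.τ_ne_one (congrArg Subtype.val h)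
  have hu_pg : IsPGroup 2 (Subgroup.zpowers u) := IsPGroup.of_card (n := 1) (by rw [Nat.card_zpowers, hu2, pow_one])
  obtain ⟨P, hP⟩ := hu_pg.exists_le_sylow
  have huP : u ∈ P := hP (Subgroup.mem_zpowers u)
  have hiso := (Cfsg.Agent.S0216.result P u hu2 huP).2 fun g => by
    have hodd := odd_orderOf_mul_conj huu (fun g hg => Subtype.ext (D.iso_L g.1 g.2 (by
      have := congrArg Subtype.val hg.eq
      exact this))) g
    have e : u * g * u⁻¹ * g⁻¹ = u * (g * u * g⁻¹) := by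
      rw [inv_eq_of_mul_eq_one_left huu]; group
    rwa [e]
  obtain ⟨N₀, hN₀, hodd, hcomm⟩ := Cfsg.Agent.S0215.result P u hu2 huP hiso
  refine ⟨N₀.map L'.subtype, Subgroup.map_subtype_le _, ?_, ?_, fun l hl => ⟨_, hcomm ⟨l, hl⟩, rfl⟩⟩
  · intro l hl
    rw [Subgroup.mem_normalizer_iff]
    intro n
    constructor
    · rintro ⟨m, hm, rfl⟩
      exact ⟨⟨l, hl⟩ * m * ⟨l, hl⟩⁻¹, hN₀.conj_mem m hm _, rfl⟩
    · rintro ⟨m, hm, he⟩
      refine ⟨(⟨l, hl⟩ : L')⁻¹ * m * (⟨l, hl⟩ : L'), by simpa using hN₀.conj_mem m hm (⟨l, hl⟩ : L')⁻¹, ?_⟩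
      have he' : (m : MulAut D.Ab) = l * n * l⁻¹ := he
      show l⁻¹ * (m : MulAut D.Ab) * l = n
      rw [he']; group
  · rwa [Subgroup.card_map_of_injective L'.subtype_injective]

/-- The odd part commuting with the involution fixes the inverted part. -/
theorem fix_P_of_commute [Finite G] [Finite F] {N : Subgroup (MulAut D.Ab)} (hNL : N ≤ D.L.map D.act)
    (hN : D.L.map D.act ≤ Subgroup.normalizer (N : Set (MulAut D.Ab))) (hodd : Odd (Nat.card N))
    {n : MulAut D.Ab} (hn : n ∈ N) (hc : Commute n D.τ) : ∀ p ∈ D.P, n p = p := by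
  haveI := D.char3
  let S : Subgroup SL(2, F) :=
    { carrier := {s | ∃ l ∈ D.L, D.act l ∈ N ∧ Commute (D.act l) D.τ ∧ D.IsPhi l s}
      one_mem' := ⟨1, one_mem _, by rw [map_one]; exact one_mem _, by rw [map_one]; exact Commute.one_left _, D.isPhi_one⟩
      mul_mem' := by
        rintro s r ⟨l, hl, hlN, hlc, hls⟩ ⟨k, hk, hkN, hkc, hkr⟩
        exact ⟨l * k, mul_mem hl hk, by rw [map_mul]; exact mul_mem hlN hkN,
          by rw [map_mul]; exact hlc.mul_left hkc, D.isPhi_mul hls hkr⟩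
      inv_mem' := by
        rintro s ⟨l, hl, hlN, hlc, hls⟩
        exact ⟨l⁻¹, inv_mem hl, by rw [map_inv]; exact inv_mem hlN, by rw [map_inv]; exact hlc.inv_left,
          D.isPhi_inv hls⟩ }
  have hS : S = ⊥ := by
    refine eq_bot_of_odd S ?_ ?_
    · intro g hg s ⟨l, hl, hlN, hlc, hls⟩
      rw [← D.ρ_range] at hg
      obtain ⟨e, rfl⟩ := hg
      refine ⟨(e : G) * l * (e : G)⁻¹, mul_mem (mul_mem (Subgroup.mem_sup_left e.2) hl) (inv_mem (Subgroup.mem_sup_left e.2)),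
        ?_, ?_, D.isPhi_mul (D.isPhi_mul (D.isPhi_E e) hls) (D.isPhi_inv (D.isPhi_E e))⟩
      · rw [map_mul, map_mul, map_inv]
        exact (Subgroup.mem_normalizer_iff.1 (hN ⟨_, Subgroup.mem_sup_left e.2, rfl⟩) _).1 hlN
      · rw [map_mul, map_mul, map_inv]
        exact ((D.act_commute_E e).mul_left hlc).mul_left (D.act_commute_E e).inv_left
    · rintro s ⟨l, -, hlN, -, hls⟩
      have hpow : ∀ m : ℕ, D.IsPhi (l ^ m) (s ^ m) := by
        intro m
        induction m with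
        | zero => rw [pow_zero, pow_zero]; exact D.isPhi_one
        | succ m ih => rw [pow_succ, pow_succ]; exact D.isPhi_mul ih hls
      have h1 : D.act (l ^ Nat.card N) = 1 := by
        rw [map_pow]
        exact congrArg Subtype.val (pow_card_eq_one' (x := (⟨D.act l, hlN⟩ : N)))
      have h2 : s ^ Nat.card N = 1 :=
        D.isPhi_unique (D.isPhi_congr (hpow _) (h1.trans (map_one _).symm)) D.isPhi_one
      exact Odd.of_dvd_nat hodd (orderOf_dvd_of_pow_eq_one h2)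
  obtain ⟨l, hl, rfl⟩ := hNL hn
  intro p hp
  obtain ⟨s, hs⟩ := D.exists_isPhi (D.L_le_L0 hl) (fun a ha => D.act_mem_P hc ha)
  have hs1 : s = 1 := Subgroup.mem_bot.1 (hS ▸ (⟨l, hl, hn, hc, hs⟩ : s ∈ S))
  obtain ⟨h1, e1⟩ := hs ⟨p, hp⟩
  rw [hs1, Matrix.SpecialLinearGroup.coe_one, Matrix.one_mulVec] at e1
  exact congrArg Subtype.val (D.ψP_bij.1 (Multiplicative.toAdd.injective e1))

set_option maxHeartbeats 1000000 in
theorem exists_quaternion :
    ∃ aw aj : MulAut D.Ab, aw ∈ D.L.map D.act ∧ aj ∈ D.L.map D.act ∧ Commute aw D.τ ∧ Commute aj D.τ ∧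
      ⁅aw, aj⁆ = D.τ ∧ IsPGroup 2 (Subgroup.zpowers aw ⊔ Subgroup.zpowers aj : Subgroup (MulAut D.Ab)) := by
  haveI := D.char3
  haveI : Fact (Nat.Prime 2) := ⟨Nat.prime_two⟩
  have hrange : ∀ g ∈ commutator SL(2, F), ∃ e : E, D.ρ e = g := fun g hg => by
    rw [← D.ρ_range] at hg; exact hg
  obtain ⟨ew, hw⟩ := hrange _ weylSL_mem
  obtain ⟨ej, hj⟩ := hrange _ quatJ_mem
  have e1 : ⁅D.act (ew : G), D.act (ej : G)⁆ = D.τ := by
    rw [← map_commutatorElement]
    exact D.act_congr (e := ⁅ew, ej⁆) (e' := ⟨D.t, D.t_mem⟩)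
      (by rw [map_commutatorElement, hw, hj, commutator_weyl_quatJ, D.ρ_t])
  have h4 : ∀ (e : E), D.ρ e * D.ρ e = -1 → D.act (e : G) ^ 4 = 1 := fun e he => by
    rw [← map_pow, ← map_one D.act]
    exact D.act_congr (e := e ^ 4) (e' := 1) (by
      rw [map_pow, map_one, show (4 : ℕ) = 2 + 2 from rfl, pow_add, pow_two, he, neg_mul_neg, one_mul])
  have hz : ∀ a : MulAut D.Ab, a ^ 4 = 1 → IsPGroup 2 (Subgroup.zpowers a) := by
    intro a ha
    obtain ⟨k, -, hk⟩ := (Nat.dvd_prime_pow Nat.prime_two).1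
      (show orderOf a ∣ 2 ^ 2 from orderOf_dvd_of_pow_eq_one (by simpa using ha))
    exact IsPGroup.of_card (n := k) (by rw [Nat.card_zpowers, hk])
  have hnorm : Subgroup.zpowers (D.act (ej : G)) ≤
      Subgroup.normalizer (Subgroup.zpowers (D.act (ew : G)) : Set (MulAut D.Ab)) := by
    rw [Subgroup.zpowers_le, Subgroup.mem_normalizer_iff_map_conj_eq, MonoidHom.map_zpowers]
    have : (MulAut.conj (D.act (ej : G))).toMonoidHom (D.act (ew : G)) = (D.act (ew : G))⁻¹ := by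
      show D.act (ej : G) * D.act (ew : G) * (D.act (ej : G))⁻¹ = _
      rw [← map_inv, ← map_mul, ← map_mul, ← map_inv]
      refine D.act_congr (e := ej * ew * ej⁻¹) (e' := ew⁻¹) ?_
      rw [map_mul, map_mul, map_inv, map_inv, hw, hj]
      have h1 : (quatJ : SL(2, F)) * weylSL = -(weylSL * quatJ) := by rw [weylSL_mul_quatJ, neg_neg]
      rw [h1, neg_mul, mul_inv_cancel_right, eq_comm, inv_eq_iff_mul_eq_one, mul_neg, weylSL_sq, neg_neg]
    erw [this, Subgroup.zpowers_inv]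
  exact ⟨_, _, ⟨_, Subgroup.mem_sup_left ew.2, rfl⟩, ⟨_, Subgroup.mem_sup_left ej.2, rfl⟩,
    D.act_commute_E ew, D.act_commute_E ej, e1,
    (hz _ (h4 ew (by rw [hw, weylSL_sq]))).to_sup_of_normal_left' (hz _ (h4 ej (by rw [hj, quatJ_sq]))) hnorm⟩

set_option maxHeartbeats 1000000 in
/-- An invariant subgroup of order a power of a prime other than three commutes with the involution. -/
theorem commute_of_invariant [Finite G] [Finite F] {N : Subgroup (MulAut D.Ab)} (hNL : N ≤ D.L.map D.act)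
    (hN : D.L.map D.act ≤ Subgroup.normalizer (N : Set (MulAut D.Ab))) (hodd : Odd (Nat.card N))
    {aw aj : MulAut D.Ab} (haw : Commute aw D.τ) (haj : Commute aj D.τ) (hcom : ⁅aw, aj⁆ = D.τ)
    {r : ℕ} [hr : Fact r.Prime] (hr3 : r ≠ 3) :
    ∀ Y : Subgroup (MulAut D.Ab), Y ≤ N → IsPGroup r Y → aw ∈ Subgroup.normalizer (Y : Set (MulAut D.Ab)) →
      aj ∈ Subgroup.normalizer (Y : Set (MulAut D.Ab)) → ∀ y ∈ Y, Commute y D.τ := by
  haveI := D.char3
  haveI : Finite (MulAut D.Ab) := Finite.of_injective (fun f : MulAut D.Ab => (f : D.Ab → D.Ab)) DFunLike.coe_injective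
  haveI : Fact (Nat.Prime 3) := ⟨Nat.prime_three⟩
  intro Y
  induction hcard : Nat.card Y using Nat.strong_induction_on generalizing Y with | _ n ih => ?_
  intro hYN hYr hwY hjY
  have hsmall : ∀ X : Subgroup (MulAut D.Ab), X < Y → aw ∈ Subgroup.normalizer (X : Set (MulAut D.Ab)) →
      aj ∈ Subgroup.normalizer (X : Set (MulAut D.Ab)) → ∀ x ∈ X, Commute x D.τ := by
    intro X hX h1 h2
    refine ih _ ?_ X rfl (hX.le.trans hYN) (hYr.to_le hX.le) h1 h2
    rw [← hcard]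
    exact Set.ncard_lt_ncard (SetLike.coe_strictMono hX) (Set.toFinite _)
  have hτY : D.τ ∈ Subgroup.normalizer (Y : Set (MulAut D.Ab)) := by
    rw [← hcom, commutatorElement_def]
    exact mul_mem (mul_mem (mul_mem hwY hjY) (inv_mem hwY)) (inv_mem hjY)
  have hτinv : D.τ⁻¹ = D.τ := inv_eq_of_mul_eq_one_left D.τ_sq
  have hodd_mem : ∀ y ∈ Y, Odd (orderOf y) := fun y hy => by
    refine Odd.of_dvd_nat hodd ?_
    rw [← Subgroup.orderOf_mk (a := y) (ha := hYN hy)]
    exact orderOf_dvd_natCard _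
  have hsq : ∀ y ∈ Y, y * y = 1 → y = 1 := fun y hy h => by
    have hd := orderOf_dvd_of_pow_eq_one (show y ^ 2 = 1 by rw [pow_two, h])
    exact orderOf_eq_one_iff.1 (Nat.eq_one_of_dvd_coprimes (hodd_mem y hy).coprime_two_right dvd_rfl hd)
  -- the subgroup generated by the commutators with the involution
  set Y₁ := Subgroup.closure {w | ∃ y ∈ Y, D.τ * y * D.τ * y⁻¹ = w} with hY₁
  have hY₁Y : Y₁ ≤ Y := (Subgroup.closure_le _).2 fun w ⟨y, hy, hw⟩ => by
    rw [← hw]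
    refine mul_mem ?_ (inv_mem hy)
    have := (Subgroup.mem_normalizer_iff.1 hτY y).1 hy
    rwa [hτinv] at this
  have hinv₁ : ∀ a ∈ Subgroup.normalizer (Y : Set (MulAut D.Ab)), Commute a D.τ →
      a ∈ Subgroup.normalizer (Y₁ : Set (MulAut D.Ab)) := by
    suffices h : ∀ a ∈ Subgroup.normalizer (Y : Set (MulAut D.Ab)), Commute a D.τ →
        ∀ x ∈ Y₁, a * x * a⁻¹ ∈ Y₁ by
      intro a ha hc
      rw [Subgroup.mem_normalizer_iff]
      exact fun x => ⟨h a ha hc x, fun hx => by simpa [mul_assoc] using h a⁻¹ (inv_mem ha) hc.inv_left _ hx⟩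
    intro a ha hc x hx
    have hle : Y₁ ≤ Y₁.comap (MulAut.conj a).toMonoidHom := (Subgroup.closure_le _).2 fun w ⟨y, hy, hw⟩ => by
      refine Subgroup.subset_closure ⟨a * y * a⁻¹, (Subgroup.mem_normalizer_iff.1 ha y).1 hy, ?_⟩
      show _ = a * w * a⁻¹
      rw [← hw]
      calc D.τ * (a * y * a⁻¹) * D.τ * (a * y * a⁻¹)⁻¹
          = (D.τ * a) * y * (a⁻¹ * D.τ) * (a * y⁻¹ * a⁻¹) := by group
        _ = (a * D.τ) * y * (D.τ * a⁻¹) * (a * y⁻¹ * a⁻¹) := by rw [hc.eq, hc.inv_left.eq]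
        _ = a * (D.τ * y * D.τ * y⁻¹) * a⁻¹ := by group
    exact hle hx
  have hgen_inv : ∀ y : MulAut D.Ab, D.τ * (D.τ * y * D.τ * y⁻¹) * D.τ = (D.τ * y * D.τ * y⁻¹)⁻¹ := by
    intro y
    rw [show (D.τ * y * D.τ * y⁻¹)⁻¹ = y * D.τ⁻¹ * y⁻¹ * D.τ⁻¹ by group, hτinv,
      show D.τ * (D.τ * y * D.τ * y⁻¹) * D.τ = D.τ * D.τ * (y * D.τ * y⁻¹ * D.τ) by group, D.τ_sq, one_mul]
  by_cases hlt : Y₁ < Y
  · intro y hy
    have hw : Commute (D.τ * y * D.τ * y⁻¹) D.τ := hsmall Y₁ hlt (hinv₁ aw hwY haw) (hinv₁ aj hjY haj) _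
      (Subgroup.subset_closure ⟨y, hy, rfl⟩)
    have h1 := hgen_inv y
    rw [← hw.eq, mul_assoc, D.τ_sq, mul_one] at h1
    have h2 := hsq _ (hY₁Y (Subgroup.subset_closure ⟨y, hy, rfl⟩)) (mul_eq_one_iff_eq_inv.2 h1)
    rw [mul_inv_eq_one] at h2
    show y * D.τ = D.τ * y
    conv_lhs => rw [← h2, mul_assoc (D.τ * y), D.τ_sq, mul_one]
  have hY₁eq : Y₁ = Y := eq_of_le_of_not_lt hY₁Y hlt
  by_cases hbot : Y = ⊥
  · intro y hy; rw [hbot, Subgroup.mem_bot] at hy; rw [hy]; exact Commute.one_left _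
  -- `Y` is abelian
  have hfix : ∀ n ∈ N, Commute n D.τ → ∀ p ∈ D.P, n p = p := fun n hn hc => D.fix_P_of_commute hNL hN hodd hn hc
  have hab : ∀ x ∈ Y, ∀ y ∈ Y, x * y = y * x := by
    have hder : ⁅Y, Y⁆ < Y := CfsgLib.GlaubermanZJ.commutator_lt_of_isPGroup hYr hbot
    have hnd : ∀ a ∈ Subgroup.normalizer (Y : Set (MulAut D.Ab)),
        a ∈ Subgroup.normalizer (((⁅Y, Y⁆ : Subgroup (MulAut D.Ab))) : Set (MulAut D.Ab)) := fun a ha => by
      rw [Subgroup.mem_normalizer_iff_map_conj_eq] at ha ⊢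
      rw [Subgroup.map_commutator, ha]
    have hfixd : ∀ w ∈ ⁅Y, Y⁆, ∀ y ∈ Y, ∀ p ∈ D.P, w (y p) = y p := by
      intro w hw y hy p hp
      have hw' : y⁻¹ * w * y ∈ ⁅Y, Y⁆ := by
        simpa using (Subgroup.mem_normalizer_iff.1 (hnd _ (inv_mem (Subgroup.le_normalizer hy))) w).1 hw
      have h1 := hfix _ (hYN (hder.le hw')) (hsmall _ hder (hnd aw hwY) (hnd aj hjY) _ hw') p hp
      have h2 := congrArg y h1
      rwa [MulAut.mul_apply, MulAut.mul_apply, MulAut.apply_inv_self] at h2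
    set AY : Subgroup D.Ab := Subgroup.closure {b | ∃ y ∈ Y, ∃ p ∈ D.P, y p = b} with hAY
    have hAYY : ∀ g ∈ Y, ∀ b ∈ AY, g b ∈ AY := by
      intro g hg b hb
      have hle : AY ≤ AY.comap g.toMonoidHom := (Subgroup.closure_le _).2 fun b ⟨y, hy, p, hp, he⟩ =>
        Subgroup.subset_closure ⟨g * y, mul_mem hg hy, p, hp, by rw [MulAut.mul_apply, he]; rfl⟩
      exact hle hb
    let K : Subgroup (MulAut D.Ab) :=
      { carrier := {g | g ∈ Y ∧ ∀ a, g a * a⁻¹ ∈ AY}
        one_mem' := ⟨one_mem _, fun a => by rw [MulAut.one_apply, mul_inv_cancel]; exact one_mem _⟩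
        mul_mem' := by
          rintro g h ⟨hg, hg'⟩ ⟨hh, hh'⟩
          refine ⟨mul_mem hg hh, fun a => ?_⟩
          have := mul_mem (hg' (h a)) (hh' a)
          rwa [← mul_assoc, inv_mul_cancel_right, ← MulAut.mul_apply] at this
        inv_mem' := by
          rintro g ⟨hg, hg'⟩
          refine ⟨inv_mem hg, fun a => ?_⟩
          have := inv_mem (hg' (g⁻¹ a))
          rwa [MulAut.apply_inv_self, mul_inv_rev, inv_inv] at this }
    have hK : Y ≤ K := by
      conv_lhs => rw [← hY₁eq]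
      refine (Subgroup.closure_le _).2 fun w ⟨y, hy, hw⟩ => ?_
      refine ⟨hY₁Y (Subgroup.subset_closure ⟨y, hy, hw⟩), fun a => ?_⟩
      subst hw
      rw [MulAut.mul_apply, MulAut.mul_apply, MulAut.mul_apply]
      set a' := D.τ (y⁻¹ a) with ha'
      have h1 : D.τ (y a') * (y a')⁻¹ ∈ AY :=
        Subgroup.subset_closure ⟨1, one_mem _, _, D.τ_sub (y a'), rfl⟩
      have h2 : y a' * a⁻¹ ∈ AY := by
        refine Subgroup.subset_closure ⟨y, hy, _, D.τ_sub (y⁻¹ a), ?_⟩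
        rw [map_mul, map_inv, MulAut.apply_inv_self]
      have := mul_mem h1 h2
      rwa [← mul_assoc, inv_mul_cancel_right] at this
    intro x hx y hy
    refine commutatorElement_eq_one_iff_mul_comm.1 ?_
    set w := ⁅x, y⁆ with hw
    have hwd : w ∈ ⁅Y, Y⁆ := Subgroup.commutator_mem_commutator hx hy
    refine MulEquiv.ext fun a => ?_
    have hzA := (hK (hder.le hwd)).2 a
    set z := w a * a⁻¹ with hz
    have hwz : w z = z := by
      have hle : AY ≤ MonoidHom.eqLocus w.toMonoidHom (MonoidHom.id _) :=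
        (Subgroup.closure_le _).2 fun b ⟨y, hy, p, hp, he⟩ => by
          show w b = b
          rw [← he]; exact hfixd w hwd y hy p hp
      exact hle hzA
    have hwa : w a = z * a := by rw [hz, inv_mul_cancel_right]
    have hpow : ∀ m : ℕ, (w ^ m) a = z ^ m * a := by
      intro m
      induction m with
      | zero => simp
      | succ m ihm =>
        rw [pow_succ', MulAut.mul_apply, ihm, map_mul, map_pow, hwz, hwa, ← mul_assoc, ← pow_succ]
    have h1 := hpow (orderOf w)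
    rw [pow_orderOf_eq_one, MulAut.one_apply, eq_comm, mul_eq_right] at h1
    have hc3 : (orderOf w).Coprime 3 := by
      obtain ⟨k, hk⟩ := IsPGroup.iff_orderOf.1 hYr ⟨w, hder.le hwd⟩
      rw [← Subgroup.orderOf_coe] at hk
      rw [show orderOf w = r ^ k from hk]
      exact Nat.Coprime.pow_left k ((Nat.coprime_primes hr.out Nat.prime_three).2 hr3)
    have hz1 : z = 1 := orderOf_eq_one_iff.1 (Nat.eq_one_of_dvd_coprimes hc3
      (orderOf_dvd_of_pow_eq_one h1) (orderOf_dvd_of_pow_eq_one (D.ab_pow z)))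
    rw [MulAut.one_apply, hwa, hz1, one_mul]
  -- the involution inverts `Y`
  have hYinv : ∀ y ∈ Y, D.τ * y * D.τ = y⁻¹ := by
    suffices h : Y₁ ≤ Y ∧ ∀ y ∈ Y₁, D.τ * y * D.τ = y⁻¹ from fun y hy => h.2 y (hY₁eq.symm ▸ hy)
    refine ⟨hY₁Y, fun y hy => ?_⟩
    induction hy using Subgroup.closure_induction with
    | mem w hw => obtain ⟨v, -, rfl⟩ := hw; exact hgen_inv v
    | one => rw [mul_one, D.τ_sq, inv_one]
    | mul x z hx hz ihx ihz =>
      calc D.τ * (x * z) * D.τ = D.τ * x * D.τ * (D.τ⁻¹ * z * D.τ) := by group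
        _ = x⁻¹ * z⁻¹ := by rw [hτinv, ihx, ihz]
        _ = (x * z)⁻¹ := by rw [← mul_inv_rev, hab z (hY₁Y hz) x (hY₁Y hx)]
    | inv x _ ihx =>
      calc D.τ * x⁻¹ * D.τ = D.τ⁻¹ * x⁻¹ * D.τ⁻¹ := by rw [hτinv]
        _ = (D.τ * x * D.τ)⁻¹ := by group
        _ = x⁻¹⁻¹ := by rw [ihx]
  -- exponent `r`
  have hexp : ∀ y ∈ Y, y ^ r = 1 := by
    set Yr : Subgroup (MulAut D.Ab) :=
      { carrier := {y | y ∈ Y ∧ y ^ r = 1}
        one_mem' := ⟨one_mem _, one_pow _⟩
        mul_mem' := fun {a b} ha hb => ⟨mul_mem ha.1 hb.1, by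
          rw [Commute.mul_pow (hab a ha.1 b hb.1), ha.2, hb.2, one_mul]⟩
        inv_mem' := fun {a} ha => ⟨inv_mem ha.1, by rw [inv_pow, ha.2, inv_one]⟩ }
    by_cases hYr' : Yr = Y
    · intro y hy; rw [← hYr'] at hy; exact hy.2
    exfalso
    have hle : Yr < Y := lt_of_le_of_ne (fun y hy => hy.1) hYr'
    have hnr : ∀ a ∈ Subgroup.normalizer (Y : Set (MulAut D.Ab)), a ∈ Subgroup.normalizer (Yr : Set (MulAut D.Ab)) := by
      intro a ha
      rw [Subgroup.mem_normalizer_iff]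
      intro y
      constructor
      · exact fun hy => ⟨(Subgroup.mem_normalizer_iff.1 ha y).1 hy.1, by rw [conj_pow, hy.2, mul_one, mul_inv_cancel]⟩
      · intro hy
        have h := hy.2
        rw [conj_pow, mul_inv_eq_one, mul_eq_left] at h
        exact ⟨(Subgroup.mem_normalizer_iff.1 ha y).2 hy.1, h⟩
    obtain ⟨y, hy⟩ := exists_prime_orderOf_dvd_card' (G := Y) r (by
      obtain ⟨k, hk⟩ := IsPGroup.iff_card.1 hYr
      rw [hk]
      refine dvd_pow_self r fun h => hbot ?_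
      rw [h, pow_zero] at hk
      exact Subgroup.card_eq_one.1 hk)
    have hy1 : (y : MulAut D.Ab) ^ r = 1 := by
      rw [← Subgroup.coe_pow, ← hy, pow_orderOf_eq_one]; rfl
    have hc := hsmall Yr hle (hnr aw hwY) (hnr aj hjY) y ⟨y.2, hy1⟩
    have h1 := hYinv y y.2
    rw [← hc.eq, mul_assoc, D.τ_sq, mul_one] at h1
    have h2 := hsq y y.2 (mul_eq_one_iff_eq_inv.2 h1)
    rw [← Subgroup.orderOf_coe, h2, orderOf_one] at hy
    exact hr.out.ne_one hy.symm
  intro y₀ hy₀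
  rcases eq_or_ne y₀ 1 with rfl | hy₀1
  · exact Commute.one_left _
  exfalso
  have hyord : orderOf y₀ = r := orderOf_eq_prime (hexp y₀ hy₀) hy₀1
  by_cases hcyc : Y ≤ Subgroup.zpowers y₀
  · -- a cyclic group: its automorphisms commute
    have hpow : ∀ a ∈ Subgroup.normalizer (Y : Set (MulAut D.Ab)), ∃ k : ℤ, ∀ z ∈ Y, a * z * a⁻¹ = z ^ k := by
      intro a ha
      obtain ⟨k, hk⟩ := Subgroup.mem_zpowers_iff.1 (hcyc ((Subgroup.mem_normalizer_iff.1 ha y₀).1 hy₀))
      refine ⟨k, fun z hz => ?_⟩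
      obtain ⟨m, rfl⟩ := Subgroup.mem_zpowers_iff.1 (hcyc hz)
      rw [← conj_zpow, ← hk, ← zpow_mul, ← zpow_mul, mul_comm]
    obtain ⟨i, hi⟩ := hpow aw hwY
    obtain ⟨k, hk⟩ := hpow aj hjY
    set y' := (aj * aw)⁻¹ * y₀ * (aj * aw) with hy'
    have hy'Y : y' ∈ Y := by
      have := (Subgroup.mem_normalizer_iff.1 (inv_mem (mul_mem hjY hwY)) y₀).1 hy₀
      rwa [inv_inv] at this
    have h1 : aw * aj * y' * (aw * aj)⁻¹ = aj * aw * y' * (aj * aw)⁻¹ := by
      calc aw * aj * y' * (aw * aj)⁻¹ = aw * (aj * y' * aj⁻¹) * aw⁻¹ := by group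
        _ = (y' ^ i) ^ k := by rw [hk y' hy'Y, ← conj_zpow, hi y' hy'Y]
        _ = (y' ^ k) ^ i := by rw [← zpow_mul, ← zpow_mul, mul_comm]
        _ = aj * (aw * y' * aw⁻¹) * aj⁻¹ := by rw [hi y' hy'Y, ← conj_zpow, hk y' hy'Y]
        _ = aj * aw * y' * (aj * aw)⁻¹ := by group
    have h2 : D.τ * y₀ * D.τ⁻¹ = y₀ := by
      calc D.τ * y₀ * D.τ⁻¹ = aw * aj * y' * (aw * aj)⁻¹ := by
            rw [← hcom, commutatorElement_def, hy']; group
        _ = aj * aw * y' * (aj * aw)⁻¹ := h1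
        _ = y₀ := by rw [hy']; group
    rw [hτinv, hYinv y₀ hy₀] at h2
    exact hy₀1 (hsq y₀ hy₀ (mul_eq_one_iff_eq_inv.2 h2.symm))
  -- the noncyclic case
  obtain ⟨z₀, hz₀, hz₀n⟩ := SetLike.not_le_iff_exists.1 hcyc
  have hcop3 : Nat.Coprime 3 r := (Nat.coprime_primes Nat.prime_three hr.out).2 (Ne.symm hr3)
  have hrr : ∀ v : D.Ab, v ^ r = 1 → v = 1 := fun v hv => orderOf_eq_one_iff.1
    (Nat.eq_one_of_dvd_coprimes hcop3 (orderOf_dvd_of_pow_eq_one (D.ab_pow v)) (orderOf_dvd_of_pow_eq_one hv))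
  letI : CommGroup D.Ab := { (inferInstance : Group D.Ab) with mul_comm := D.ab_comm }
  let Nm : MulAut D.Ab → D.Ab → D.Ab := fun g a => ∏ k ∈ Finset.range r, (g ^ k) a
  have hNm_mul : ∀ g a b, Nm g (a * b) = Nm g a * Nm g b := fun g a b => by
    simp only [Nm, map_mul, Finset.prod_mul_distrib]
  have hNm_fix : ∀ (g : MulAut D.Ab) (a), g a = a → Nm g a = a ^ r := fun g a h => by
    have hk : ∀ k : ℕ, (g ^ k) a = a := fun k => by
      induction k with
      | zero => simp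
      | succ k ihk => rw [pow_succ, MulAut.mul_apply, h, ihk]
    simp only [Nm, hk, Finset.prod_const, Finset.card_range]
  have hNm_g : ∀ (g : MulAut D.Ab), g ^ r = 1 → ∀ a, g (Nm g a) = Nm g a := fun g hg a => by
    simp only [Nm, map_prod, ← MulAut.mul_apply, ← pow_succ']
    have h := Finset.prod_range_succ' (fun k => (g ^ k) a) r
    rw [Finset.prod_range_succ, hg, pow_zero] at h
    exact mul_right_cancel h.symm
  have hNm_commute : ∀ (g z : MulAut D.Ab), Commute z g → ∀ a, z (Nm g a) = Nm g (z a) := fun g z h a => by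
    simp only [Nm, map_prod]
    exact Finset.prod_congr rfl fun k _ => DFunLike.congr_fun (h.pow_right k).eq a
  have hNm_τ : ∀ g ∈ Y, ∀ a, D.τ (Nm g a) = Nm g (D.τ a) := by
    intro g hg a
    have hinvk : ∀ k : ℕ, D.τ * g ^ k = g⁻¹ ^ k * D.τ := fun k => by
      have : D.τ * g ^ k * D.τ⁻¹ = g⁻¹ ^ k := by rw [← conj_pow, hτinv, hYinv g hg]
      rw [← this, inv_mul_cancel_right]
    have hNinv : ∀ b, Nm g⁻¹ b = Nm g b := fun b => by
      have hr1 : ∀ k ∈ Finset.range r, (g⁻¹ ^ k) b = g ((g ^ (r - 1 - k)) b) := fun k hk => by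
        rw [Finset.mem_range] at hk
        rw [← MulAut.mul_apply, ← pow_succ', inv_pow]
        congr 1
        rw [inv_eq_iff_mul_eq_one, ← pow_add, show k + (r - 1 - k + 1) = r by omega, hexp g hg]
      calc Nm g⁻¹ b = ∏ k ∈ Finset.range r, g ((g ^ (r - 1 - k)) b) := Finset.prod_congr rfl hr1
        _ = g (Nm g b) := by rw [← map_prod, Finset.prod_range_reflect (fun k => (g ^ k) b) r]
        _ = Nm g b := hNm_g g (hexp g hg) b
    calc D.τ (Nm g a) = Nm g⁻¹ (D.τ a) := by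
          simp only [Nm, map_prod]
          exact Finset.prod_congr rfl fun k _ => DFunLike.congr_fun (hinvk k) a
      _ = Nm g (D.τ a) := hNinv _
  have hYL0 : ∀ g ∈ Y, ∃ l ∈ D.L0, D.act l = g := fun g hg => by
    obtain ⟨l, hl, he⟩ := hNL (hYN hg)
    exact ⟨l, D.L_le_L0 hl, he⟩
  -- fixed points of every nontrivial element are fixed by `Y`
  have hfixY : ∀ y ∈ Y, y ≠ 1 → ∀ a, y a = a → ∀ z ∈ Y, z a = a := by
    intro y hy hy1
    let C : Subgroup D.Ab := MonoidHom.eqLocus y.toMonoidHom (MonoidHom.id _)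
    let M : Subgroup D.Ab := (MonoidHom.mk' (Nm y) (hNm_mul y)).ker
    have hmemC : ∀ a, a ∈ C ↔ y a = a := fun a => Iff.rfl
    have hmemM : ∀ a, a ∈ M ↔ Nm y a = 1 := fun a => Iff.rfl
    have horth : ∀ x ∈ C, ∀ a ∈ M, D.Orth x a := by
      intro x hx a ha
      obtain ⟨l, hl, he⟩ := hYL0 y hy
      have hstep : ∀ b, (D.beta x (y b) * (D.beta x b)⁻¹) ∈ D.U := fun b => by
        have := D.beta_act_mul_inv hl x b
        rwa [he, (hmemC x).1 hx] at this
      have hkk : ∀ k : ℕ, D.beta x ((y ^ k) a) * (D.beta x a)⁻¹ ∈ D.U := by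
        intro k
        induction k with
        | zero => rw [pow_zero, MulAut.one_apply, mul_inv_cancel]; exact one_mem _
        | succ k ihk =>
          have := mul_mem (hstep ((y ^ k) a)) ihk
          rwa [← mul_assoc, inv_mul_cancel_right, ← MulAut.mul_apply, ← pow_succ'] at this
      have hm : ∀ m : ℕ, D.beta x (∏ k ∈ Finset.range m, (y ^ k) a) * ((D.beta x a) ^ m)⁻¹ ∈ D.U := by
        intro m
        induction m with
        | zero =>
          have h1 : D.beta x 1 = 1 := left_eq_mul.1 (by rw [← D.beta_mul_right, one_mul])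
          rw [Finset.prod_range_zero, pow_zero, h1, inv_one, mul_one]
          exact one_mem _
        | succ m ihm =>
          have hv := D.beta_mem x a
          have hq := D.beta_mem x ((y ^ m) a)
          rw [Finset.prod_range_succ, D.beta_mul_right, pow_succ', mul_inv_rev]
          have h4 := mul_mem ihm (hkk m)
          have e : D.beta x (∏ k ∈ Finset.range m, (y ^ k) a) * D.beta x ((y ^ m) a) *
              ((D.beta x a ^ m)⁻¹ * (D.beta x a)⁻¹) =
              D.beta x (∏ k ∈ Finset.range m, (y ^ k) a) * (D.beta x a ^ m)⁻¹ *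
              (D.beta x ((y ^ m) a) * (D.beta x a)⁻¹) := by
            have hc : Commute (D.beta x ((y ^ m) a)) ((D.beta x a ^ m)⁻¹) := D.V_comm hq (inv_mem (pow_mem hv m))
            rw [mul_assoc (D.beta x _) (D.beta x ((y ^ m) a)), ← mul_assoc (D.beta x ((y ^ m) a)), hc.eq]
            group
          rw [e]
          exact h4
      have h1 := hm r
      have hb1 : D.beta x 1 = 1 := left_eq_mul.1 (by rw [← D.beta_mul_right, one_mul])
      rw [show (∏ k ∈ Finset.range r, (y ^ k) a) = 1 from (hmemM a).1 ha, hb1, one_mul,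
        inv_mem_iff] at h1
      -- a power prime to three
      obtain ⟨u, v, huv⟩ : ∃ u v : ℤ, (r : ℤ) * u + 3 * v = 1 := by
        refine ⟨Nat.gcdA r 3, Nat.gcdB r 3, ?_⟩
        have := Nat.gcd_eq_gcd_ab r 3
        rw [show Nat.gcd r 3 = 1 from hcop3.symm] at this
        exact_mod_cast this.symm
      show D.beta x a ∈ D.U
      have h3 := D.V_pow _ (D.beta_mem x a)
      rw [show D.beta x a = (D.beta x a ^ r) ^ u by
        calc D.beta x a = D.beta x a ^ ((r : ℤ) * u + 3 * v) := by rw [huv, zpow_one]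
          _ = (D.beta x a ^ r) ^ u := by
              rw [zpow_add, zpow_mul, zpow_natCast, zpow_mul,
                show D.beta x a ^ (3 : ℤ) = 1 by exact_mod_cast h3, one_zpow, mul_one]]
      exact zpow_mem h1 u
    -- the projection to the fixed points
    have hproj : ∀ a, (Nm y a) ^ r ∈ C ∧ ((Nm y a) ^ r)⁻¹ * a ∈ M := by
      intro a
      have hC : (Nm y a) ^ r ∈ C := pow_mem ((hmemC _).2 (hNm_g y (hexp y hy) a)) r
      refine ⟨hC, (hmemM _).2 ?_⟩
      rw [hNm_mul, hNm_fix y _ ((hmemC _).1 (inv_mem hC)), inv_pow, ← pow_mul]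
      have hmod : (r * r) % 3 = 1 := by
        have : r % 3 ≠ 0 := fun h => hr3 ((Nat.prime_dvd_prime_iff_eq Nat.prime_three hr.out).1 (Nat.dvd_of_mod_eq_zero h)).symm
        rcases (show r % 3 = 1 ∨ r % 3 = 2 by omega) with h | h <;> rw [Nat.mul_mod, h]
      rw [← Nat.mod_add_div (r * r) 3, hmod, pow_add, pow_one, pow_mul, D.ab_pow, one_pow, mul_one, inv_mul_cancel]
    have hτC : ∀ a ∈ C, D.τ a ∈ C := fun a ha => by
      rw [hmemC] at ha ⊢
      have h1 := hYinv y hy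
      have h3 : D.τ a = D.τ (y⁻¹ a) := by rw [show y⁻¹ a = a by nth_rw 1 [← ha]; rw [MulAut.inv_apply_self]]
      have h4 : y * D.τ = D.τ * y⁻¹ := by
        rw [← h1, ← mul_assoc, ← mul_assoc, D.τ_sq, one_mul]
      calc y (D.τ a) = (y * D.τ) a := rfl
        _ = D.τ (y⁻¹ a) := by rw [h4]; rfl
        _ = D.τ a := h3.symm
    have hτM : ∀ a ∈ M, D.τ a ∈ M := fun a ha => by
      rw [hmemM] at ha ⊢
      rw [← hNm_τ y hy, ha, map_one]
    rcases D.orth_split (X := D.P ⊓ C) (Y := D.P ⊓ M) inf_le_left inf_le_left (fun p hp => by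
        have hN1 : (Nm y p) ^ r ∈ D.P := pow_mem (D.mem_P_of_inverted (by
          rw [hNm_τ y hy, D.τ_of_mem_P hp]
          exact map_inv (MonoidHom.mk' (Nm y) (hNm_mul y)) p)) r
        have h := mul_mem (Subgroup.mem_sup_left (T := D.P ⊓ M) (Subgroup.mem_inf.2 ⟨hN1, (hproj p).1⟩))
          (Subgroup.mem_sup_right (S := D.P ⊓ C) (Subgroup.mem_inf.2 ⟨mul_mem (inv_mem hN1) hp, (hproj p).2⟩))
        rwa [mul_inv_cancel_left] at h)
      (fun x hx a ha => horth x (Subgroup.mem_inf.1 hx).2 a (Subgroup.mem_inf.1 ha).2) with hC | hM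
    · intro a ha z hz
      have hfixC : ∀ b ∈ C, D.τ b = b := fun b hb => mul_inv_eq_one.1 (Subgroup.mem_bot.1 (hC ▸
        Subgroup.mem_inf.2 ⟨D.τ_sub b, mul_mem (hτC b hb) (inv_mem hb)⟩))
      have hzC : ∀ b ∈ C, z b ∈ C := fun b hb => by
        rw [hmemC] at hb ⊢
        calc y (z b) = (y * z) b := rfl
          _ = (z * y) b := by rw [hab y hy z hz]
          _ = z b := by rw [MulAut.mul_apply, hb]
      have h1 := DFunLike.congr_fun (hYinv z hz) a
      rw [MulAut.mul_apply, MulAut.mul_apply, hfixC a ha, hfixC _ (hzC a ha)] at h1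
      -- `z² a = a` with `z` of odd order
      have h2 : z (z a) = a := by rw [h1, MulAut.apply_inv_self]
      obtain ⟨k, hk⟩ := hodd_mem z hz
      have hev : ∀ k : ℕ, (z ^ (2 * k)) a = a := fun k => by
        induction k with
        | zero => simp
        | succ k ihk => rw [show 2 * (k + 1) = 2 * k + 2 by ring, pow_add, MulAut.mul_apply, pow_two, MulAut.mul_apply, h2, ihk]
      have h3 : (z ^ orderOf z) a = a := by rw [pow_orderOf_eq_one]; rfl
      rw [hk, pow_succ', MulAut.mul_apply, hev] at h3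
      exact h3
    · exfalso
      have hfixM : ∀ b ∈ M, D.τ b = b := fun b hb => mul_inv_eq_one.1 (Subgroup.mem_bot.1 (hM ▸
        Subgroup.mem_inf.2 ⟨D.τ_sub b, mul_mem (hτM b hb) (inv_mem hb)⟩))
      have hyM : ∀ b ∈ M, y b ∈ M := fun b hb => by
        rw [hmemM] at hb ⊢
        rw [← hNm_commute y y (Commute.refl y), hb, map_one]
      refine hy1 (MulEquiv.ext fun a => ?_)
      obtain ⟨hc, hm⟩ := hproj a
      set m := ((Nm y a) ^ r)⁻¹ * a with hmdef
      have h1 := DFunLike.congr_fun (hYinv y hy) m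
      rw [MulAut.mul_apply, MulAut.mul_apply, hfixM m hm, hfixM _ (hyM m hm)] at h1
      have h2 : y (y m) = m := by rw [h1, MulAut.apply_inv_self]
      obtain ⟨k, hk⟩ := hodd_mem y hy
      have hev : ∀ k : ℕ, (y ^ (2 * k)) m = m := fun k => by
        induction k with
        | zero => simp
        | succ k ihk => rw [show 2 * (k + 1) = 2 * k + 2 by ring, pow_add, MulAut.mul_apply, pow_two, MulAut.mul_apply, h2, ihk]
      have h3 : (y ^ orderOf y) m = m := by rw [pow_orderOf_eq_one]; rfl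
      rw [hk, pow_succ', MulAut.mul_apply, hev] at h3
      rw [MulAut.one_apply, show a = (Nm y a) ^ r * m by rw [hmdef, mul_inv_cancel_left], map_mul, (hmemC _).1 hc, h3]
  -- the coprime group is trivial on the moving part
  let M : Subgroup D.Ab := (MonoidHom.mk' (Nm y₀) (hNm_mul y₀)).ker
  have hzM : ∀ g ∈ Y, ∀ b ∈ M, g b ∈ M := fun g hg b hb => by
    show Nm y₀ (g b) = 1
    rw [← hNm_commute y₀ g (hab g hg y₀ hy₀), show Nm y₀ b = 1 from hb, map_one]
  let res : ∀ g ∈ Y, MulAut M := fun g hg =>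
    { toFun := fun b => ⟨g b, hzM g hg b b.2⟩
      invFun := fun b => ⟨g⁻¹ b, hzM g⁻¹ (inv_mem hg) b b.2⟩
      left_inv := fun b => Subtype.ext (MulAut.inv_apply_self _ _ _)
      right_inv := fun b => Subtype.ext (MulAut.apply_inv_self _ _ _)
      map_mul' := fun a b => Subtype.ext (map_mul g _ _) }
  have hres_pow : ∀ g (hg : g ∈ Y) (k : ℕ) (b : M), (((res g hg) ^ k) b : D.Ab) = (g ^ k) (b : D.Ab) := by
    intro g hg k b
    induction k with
    | zero => simp
    | succ k ihk =>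
      rw [pow_succ', pow_succ', MulAut.mul_apply, MulAut.mul_apply, ← ihk]
      rfl
  have hfp : ∀ g, g ∈ Y → g ≠ 1 → ∀ b : M, g (b : D.Ab) = b → b = 1 := fun g hg hg1 b hb => by
    have h1 := hfixY g hg hg1 b hb y₀ hy₀
    refine Subtype.ext (hrr _ ?_)
    rw [← hNm_fix y₀ _ h1]
    exact b.2
  have hM : ∀ b : M, b = 1 := fun b =>
    CfsgLib.Coprime44.eq_one_of_fixed_point_free (p := r) (res z₀ hz₀) (res y₀ hy₀)
      (MulEquiv.ext fun b => Subtype.ext (DFunLike.congr_fun (hab z₀ hz₀ y₀ hy₀) (b : D.Ab)))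
      (MulEquiv.ext fun b => Subtype.ext (by rw [hres_pow z₀ hz₀, hexp z₀ hz₀]; rfl))
      (MulEquiv.ext fun b => Subtype.ext (by rw [hres_pow y₀ hy₀, hexp y₀ hy₀]; rfl))
      (fun w hw => Subtype.ext (hrr _ (congrArg Subtype.val hw)))
      (fun w hw => hfp y₀ hy₀ hy₀1 w (congrArg Subtype.val hw))
      (fun i w hw => hfp (z₀ * y₀ ^ i) (mul_mem hz₀ (pow_mem hy₀ i)) (fun h => hz₀n (by
        rw [eq_inv_of_mul_eq_one_left h]
        exact inv_mem (Subgroup.npow_mem_zpowers _ _))) w (by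
        have h := congrArg Subtype.val hw
        rw [MulAut.mul_apply] at h
        change z₀ ((((res y₀ hy₀) ^ i) w : M) : D.Ab) = _ at h
        rwa [hres_pow y₀ hy₀] at h)) b
  refine hy₀1 (MulEquiv.ext fun a => ?_)
  rw [MulAut.one_apply]
  -- every element is fixed
  set c := (Nm y₀ a) ^ r with hc
  have hcfix : y₀ c = c := by rw [hc, map_pow, hNm_g y₀ (hexp y₀ hy₀)]
  have hmM : c⁻¹ * a ∈ M := by
    show Nm y₀ (c⁻¹ * a) = 1
    have hinvfix : y₀ c⁻¹ = c⁻¹ := by rw [map_inv, hcfix]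
    rw [hNm_mul, hNm_fix y₀ _ hinvfix, inv_pow, hc, ← pow_mul]
    have hmod : (r * r) % 3 = 1 := by
      have : r % 3 ≠ 0 := fun h => hr3 ((Nat.prime_dvd_prime_iff_eq Nat.prime_three hr.out).1 (Nat.dvd_of_mod_eq_zero h)).symm
      rcases (show r % 3 = 1 ∨ r % 3 = 2 by omega) with h | h <;> rw [Nat.mul_mod, h]
    rw [← Nat.mod_add_div (r * r) 3, hmod, pow_add, pow_one, pow_mul, D.ab_pow, one_pow, mul_one, inv_mul_cancel]
  have := congrArg Subtype.val (hM ⟨_, hmM⟩)
  have ha : c = a := inv_mul_eq_one.1 this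
  rw [← ha, hcfix]

/-- The products of the involution with its conjugates lie in a common `3`-subgroup. -/
theorem exists_three_group [Finite G] [Finite F] :
    ∃ K : Subgroup (MulAut D.Ab), IsPGroup 3 K ∧ ∀ l ∈ D.L.map D.act, D.τ * l * D.τ⁻¹ * l⁻¹ ∈ K := by
  haveI : Finite (MulAut D.Ab) := Finite.of_injective (fun f : MulAut D.Ab => (f : D.Ab → D.Ab)) DFunLike.coe_injective
  haveI : Fact (Nat.Prime 2) := ⟨Nat.prime_two⟩
  haveI : Fact (Nat.Prime 3) := ⟨Nat.prime_three⟩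
  obtain ⟨N, hNL, hN, hodd, hcomm⟩ := D.exists_odd_normal
  obtain ⟨aw, aj, hawL, hajL, haw, haj, hcom, h2⟩ := D.exists_quaternion
  have hn2 : ¬ 2 ∣ Nat.card N := by rwa [← even_iff_two_dvd, Nat.not_even_iff_odd]
  have hle : Subgroup.zpowers aw ⊔ Subgroup.zpowers aj ≤ Subgroup.normalizer (N : Set (MulAut D.Ab)) :=
    sup_le (Subgroup.zpowers_le.2 (hN hawL)) (Subgroup.zpowers_le.2 (hN hajL))
  -- the index of the centralizer is a power of three
  set C : Subgroup N := (Subgroup.centralizer ({D.τ} : Set (MulAut D.Ab))).subgroupOf N with hC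
  have hdiv : ∀ r : ℕ, r.Prime → r ≠ 3 → ¬ r ∣ C.index := by
    intro r hr hr3 hd
    haveI := Fact.mk hr
    obtain ⟨S, hS⟩ := CfsgLib.Coprime44.exists_invariant_sylow h2 hn2 hle r
    have hSC : (S : Subgroup N) ≤ C := fun y hy => by
      show (y : MulAut D.Ab) ∈ Subgroup.centralizer ({D.τ} : Set (MulAut D.Ab))
      rw [Subgroup.mem_centralizer_singleton_iff]
      exact (D.commute_of_invariant hNL hN hodd haw haj hcom hr3 _ (Subgroup.map_subtype_le _) (S.2.map _)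
        (hS (Subgroup.mem_sup_left (Subgroup.mem_zpowers _)))
        (hS (Subgroup.mem_sup_right (Subgroup.mem_zpowers _))) y ⟨y, hy, rfl⟩).eq
    exact S.not_dvd_index (hd.trans (Subgroup.index_dvd_of_le hSC))
  have hτN : D.τ ∈ Subgroup.normalizer (N : Set (MulAut D.Ab)) := hN ⟨D.t, D.t_mem_L, rfl⟩
  have hτ2 : IsPGroup 2 (Subgroup.zpowers D.τ) := by
    refine IsPGroup.of_card (n := 1) ?_
    rw [Nat.card_zpowers, pow_one]
    exact orderOf_eq_prime (by rw [pow_two, D.τ_sq]) D.τ_ne_one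
  obtain ⟨S, hS⟩ := CfsgLib.Coprime44.exists_invariant_sylow hτ2 hn2 (Subgroup.zpowers_le.2 hτN) 3
  set K := (S : Subgroup N).map N.subtype with hK
  have hτK : D.τ ∈ Subgroup.normalizer (K : Set (MulAut D.Ab)) := hS (Subgroup.mem_zpowers _)
  -- every element is a product of an element of `S` and one centralizing the involution
  have hprod : ∀ n : N, ∃ s ∈ (S : Subgroup N), s⁻¹ * n ∈ C := by
    intro n
    have hinj : Function.Injective (fun q : (S : Subgroup N) ⧸ C.subgroupOf (S : Subgroup N) =>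
        Quotient.liftOn' q (fun s => ((s : N) : N ⧸ C)) (fun a b h => by
          rw [QuotientGroup.leftRel_apply] at h
          exact QuotientGroup.eq.2 h)) := by
      intro a b
      induction a using QuotientGroup.induction_on
      induction b using QuotientGroup.induction_on
      rename_i x z
      intro h
      have h' : ((x : N) : N ⧸ C) = ((z : N) : N ⧸ C) := h
      refine QuotientGroup.eq.2 ?_
      exact (QuotientGroup.eq (s := C)).1 h'
    have hcard : Nat.card (N ⧸ C) ≤ Nat.card ((S : Subgroup N) ⧸ C.subgroupOf (S : Subgroup N)) := by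
      show C.index ≤ C.relIndex (S : Subgroup N)
      refine Nat.le_of_dvd (Nat.pos_of_ne_zero Subgroup.index_ne_zero_of_finite) ?_
      have h1 : (C ⊓ (S : Subgroup N)).index = C.relIndex (S : Subgroup N) * (S : Subgroup N).index := by
        rw [← Subgroup.inf_relIndex_right, Subgroup.relIndex_mul_index inf_le_right]
      have h2 : C.index ∣ C.relIndex (S : Subgroup N) * (S : Subgroup N).index :=
        h1 ▸ Subgroup.index_dvd_of_le inf_le_left
      refine (Nat.Coprime.dvd_of_dvd_mul_right ?_ h2)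
      refine Nat.coprime_of_dvd fun k hk hk1 hk2 => ?_
      by_cases h3 : k = 3
      · exact S.not_dvd_index (h3 ▸ hk2)
      · exact hdiv k hk h3 hk1
    have hsurj := (hinj.bijective_of_nat_card_le hcard).2
    obtain ⟨q, hq⟩ := hsurj (n : N ⧸ C)
    induction q using QuotientGroup.induction_on with | _ s => exact ⟨s, s.2, QuotientGroup.eq.1 hq⟩
  refine ⟨K, S.2.map _, fun l hl => ?_⟩
  have hτinv : D.τ⁻¹ = D.τ := inv_eq_of_mul_eq_one_left D.τ_sq
  set n := D.τ * l * D.τ⁻¹ * l⁻¹ with hn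
  have hnN : n ∈ N := hcomm l hl
  have hninv : D.τ * n * D.τ = n⁻¹ := by
    have e1 : n⁻¹ = l * D.τ * l⁻¹ * D.τ⁻¹ := by rw [hn]; group
    have e2 : D.τ * n * D.τ = D.τ * D.τ * (l * D.τ⁻¹ * l⁻¹ * D.τ) := by rw [hn]; group
    rw [e1, e2, D.τ_sq, one_mul, hτinv]
  -- write `n` as a square
  obtain ⟨k, hk⟩ : Odd (orderOf n) := by
    refine Odd.of_dvd_nat hodd ?_
    rw [← Subgroup.orderOf_mk (a := n) (ha := hnN)]
    exact orderOf_dvd_natCard _
  set m := n ^ (k + 1) with hm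
  have hmm : m * m = n := by
    rw [hm, ← pow_add, show k + 1 + (k + 1) = orderOf n + 1 by omega, pow_succ, pow_orderOf_eq_one, one_mul]
  have hminv : D.τ * m * D.τ⁻¹ = m⁻¹ := by
    rw [hm, ← conj_pow, show D.τ * n * D.τ⁻¹ = n⁻¹ by rw [hτinv]; exact hninv, inv_pow]
  obtain ⟨s, hs, hsc⟩ := hprod ⟨m⁻¹, inv_mem (pow_mem hnN _)⟩
  have hc : Commute ((s : MulAut D.Ab)⁻¹ * m⁻¹) D.τ := Subgroup.mem_centralizer_singleton_iff.1 hsc
  have hsK : (s : MulAut D.Ab) ∈ K := ⟨s, hs, rfl⟩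
  have key : n = (D.τ * (s : MulAut D.Ab) * D.τ⁻¹) * (s : MulAut D.Ab)⁻¹ := by
    rw [← hmm]
    set c := (s : MulAut D.Ab)⁻¹ * m⁻¹ with hcdef
    have e : m⁻¹ = (s : MulAut D.Ab) * c := by rw [hcdef, mul_inv_cancel_left]
    have hcτ : c * D.τ⁻¹ * c⁻¹ = D.τ⁻¹ := by rw [hc.inv_right.eq, mul_inv_cancel_right]
    calc m * m = (D.τ * m⁻¹ * D.τ⁻¹) * m := by
          congr 1
          rw [show D.τ * m⁻¹ * D.τ⁻¹ = (D.τ * m * D.τ⁻¹)⁻¹ by group, hminv, inv_inv]
      _ = D.τ * (s : MulAut D.Ab) * (c * D.τ⁻¹ * c⁻¹) * (s : MulAut D.Ab)⁻¹ := by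
          rw [e, show m = c⁻¹ * (s : MulAut D.Ab)⁻¹ by rw [← inv_inv m, e, mul_inv_rev]]; group
      _ = D.τ * (s : MulAut D.Ab) * D.τ⁻¹ * (s : MulAut D.Ab)⁻¹ := by rw [hcτ]
  rw [key]
  exact mul_mem ((Subgroup.mem_normalizer_iff.1 hτK _).1 hsK) (inv_mem hsK)

end Exc

end CfsgLib.BaumannBlock.CentModule
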