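import Mathlib
import Cfsg.Agent.BaumannBlock.CentModule.ZStarPart

/-!
The commutators of an exceptional block with the centralizer of its module generate a `3`-group.
-/

set_option autoImplicit false

open scoped MatrixGroups commutatorElement

namespace CfsgLib.BaumannBlock.CentModule

open Cfsg

/-- An involution of `SL₂` in characteristic three is central. -/
theorem eq_or_eq_neg_of_sq {F : Type*} [Field F] [CharP F 3] {s : SL(2, F)} (h : s * s = 1) :
    s = 1 ∨ s = -1 := by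
  have h3 := three_eq_zero (F := F)
  have hs : s.1 = (s⁻¹ : SL(2, F)).1 := congrArg Subtype.val (eq_inv_of_mul_eq_one_left h)
  rw [Matrix.SpecialLinearGroup.coe_inv, Matrix.adjugate_fin_two] at hs
  have h01 := congrFun (congrFun hs 0) 1
  have h10 := congrFun (congrFun hs 1) 0
  have h00 := congrFun (congrFun hs 0) 0
  simp at h01 h10 h00
  have b0 : s.1 0 1 = 0 := by linear_combination -h01 + (s.1 0 1) * h3
  have c0 : s.1 1 0 = 0 := by linear_combination -h10 + (s.1 1 0) * h3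
  have hd : s.1 0 0 * s.1 0 0 = 1 := by
    have := s.2
    rw [Matrix.det_fin_two, b0, zero_mul, sub_zero, ← h00] at this
    exact this
  rcases mul_self_eq_one_iff.1 hd with ha | ha
  · left; apply Subtype.ext; ext i j
    fin_cases i <;> fin_cases j <;> simp [b0, c0, ha, ← h00]
  · right; apply Subtype.ext; ext i j
    fin_cases i <;> fin_cases j <;> simp [b0, c0, ha, ← h00]

variable {G : Type*} [Group G] {E B : Subgroup G} {F : Type} [Field F] (D : Exc E B F)

namespace Exc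

theorem conj_commute_of_commute {g : G} {x : MulAut D.Ab} (hg : Commute (D.act g) D.τ)
    (hx : Commute x D.τ) : Commute (D.act g * x * (D.act g)⁻¹) D.τ :=
  (hg.mul_left hx).mul_left hg.inv_left

/-- Commutators of the involution with elements centralizing `U`, `V / U` and `O / R` normalize the block. -/
theorem t_comm_mem_normalizer [Finite G] [Finite F] {c : G} (hc : c ∈ D.C2) :
    D.t * c * D.t⁻¹ * c⁻¹ ∈ Subgroup.normalizer (E : Set G) := by
  haveI : Finite (MulAut D.Ab) := Finite.of_injective (fun f : MulAut D.Ab => (f : D.Ab → D.Ab)) DFunLike.coe_injective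
  haveI : Fact (Nat.Prime 3) := ⟨Nat.prime_three⟩
  obtain ⟨K, hK, hmem⟩ := D.exists_three_group
  set L' := D.L.map D.act with hL'
  let K' : Subgroup (MulAut D.Ab) := Subgroup.closure {x | ∃ l ∈ L', D.τ * l * D.τ⁻¹ * l⁻¹ = x}
  have hK'K : K' ≤ K := (Subgroup.closure_le _).2 fun x ⟨l, hl, hx⟩ => hx ▸ hmem l hl
  -- invariance under elements commuting with the involution and normalizing the group
  have hinv : ∀ a : MulAut D.Ab, Commute a D.τ → a ∈ Subgroup.normalizer (L' : Set (MulAut D.Ab)) →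
      ∀ x ∈ K', a * x * a⁻¹ ∈ K' := by
    intro a hc ha x hx
    have hle : K' ≤ K'.comap (MulAut.conj a).toMonoidHom := (Subgroup.closure_le _).2 fun w ⟨l, hl, hw⟩ => by
      refine Subgroup.subset_closure ⟨a * l * a⁻¹, (Subgroup.mem_normalizer_iff.1 ha l).1 hl, ?_⟩
      show _ = a * w * a⁻¹
      rw [← hw]
      calc D.τ * (a * l * a⁻¹) * D.τ⁻¹ * (a * l * a⁻¹)⁻¹
          = (D.τ * a) * l * (a⁻¹ * D.τ⁻¹) * (a * l⁻¹ * a⁻¹) := by group
        _ = (a * D.τ) * l * (D.τ⁻¹ * a⁻¹) * (a * l⁻¹ * a⁻¹) := by rw [hc.eq, hc.inv_left.inv_right.eq]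
        _ = a * (D.τ * l * D.τ⁻¹ * l⁻¹) * a⁻¹ := by group
    exact hle hx
  let Γ : Subgroup G := D.C2 ⊓ K'.comap D.act
  have hΓp : IsPGroup 3 Γ := by
    intro x
    obtain ⟨k, hk⟩ := hK.to_le hK'K ⟨D.act x, (Subgroup.mem_inf.1 x.2).2⟩
    have hx : (x : G) ^ 3 ^ k ∈ D.K2 := Subgroup.mem_inf.2 ⟨pow_mem (Subgroup.mem_inf.1 x.2).1 _, by
      show D.act ((x : G) ^ 3 ^ k) = 1
      rw [map_pow]
      exact congrArg Subtype.val hk⟩
    obtain ⟨m, hm⟩ := D.isPGroup_K2 ⟨_, hx⟩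
    refine ⟨k + m, Subtype.ext ?_⟩
    rw [Subgroup.coe_pow, pow_add, pow_mul]
    exact congrArg Subtype.val hm
  have hnorm : ∀ g : G, g ∈ Subgroup.normalizer (D.U : Set G) → g ∈ Subgroup.normalizer (E : Set G) →
      Commute (D.act g) D.τ → ∀ x ∈ Γ, g * x * g⁻¹ ∈ Γ := by
    intro g hgU hgE hgc x hx
    refine Subgroup.mem_inf.2 ⟨(Subgroup.mem_normalizer_iff.1 (D.normalizer_U_le_C2 hgU) x).1 (Subgroup.mem_inf.1 hx).1, ?_⟩
    show D.act (g * x * g⁻¹) ∈ K'
    rw [map_mul, map_mul, map_inv]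
    refine hinv _ hgc ?_ _ (Subgroup.mem_inf.1 hx).2
    have hgL : g ∈ Subgroup.normalizer (D.L : Set G) := by
      rw [Subgroup.mem_normalizer_iff_map_conj_eq, Exc.L, Subgroup.map_sup,
        Subgroup.mem_normalizer_iff_map_conj_eq.1 hgE,
        Subgroup.mem_normalizer_iff_map_conj_eq.1 (D.normalizer_U_le_C2 hgU)]
    exact Subgroup.le_normalizer_map D.act ⟨g, hgL, rfl⟩
  have hBΓ : B ≤ Subgroup.normalizer (Γ : Set G) := fun b hb => by
    rw [Subgroup.mem_normalizer_iff]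
    refine fun x => ⟨hnorm b (D.B_norm_U hb) (D.B_norm_E hb) (D.act_B_commute_τ hb) x, fun hx => ?_⟩
    have := hnorm b⁻¹ (inv_mem (D.B_norm_U hb)) (inv_mem (D.B_norm_E hb))
      (by rw [map_inv]; exact (D.act_B_commute_τ hb).inv_left) _ hx
    simpa [mul_assoc] using this
  have hEΓ : E ≤ Subgroup.normalizer (Γ : Set G) := fun e he => by
    rw [Subgroup.mem_normalizer_iff]
    refine fun x => ⟨hnorm e (D.E_norm_U he) (Subgroup.le_normalizer he) (D.act_commute_E ⟨e, he⟩) x, fun hx => ?_⟩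
    have := hnorm e⁻¹ (inv_mem (D.E_norm_U he)) (inv_mem (Subgroup.le_normalizer he))
      (D.act_commute_E ⟨e⁻¹, inv_mem he⟩) _ hx
    simpa [mul_assoc] using this
  refine D.norm_block Γ hΓp hBΓ hEΓ (Subgroup.mem_inf.2 ⟨?_, ?_⟩)
  · exact mul_mem ((Subgroup.mem_normalizer_iff.1 (D.E_le_normalizer_C2 D.t_mem) c).1 hc) (inv_mem hc)
  · show D.act (D.t * c * D.t⁻¹ * c⁻¹) ∈ K'
    rw [map_mul, map_mul, map_mul, map_inv, map_inv]
    exact Subgroup.subset_closure ⟨D.act c, ⟨c, Subgroup.mem_sup_right hc, rfl⟩, rfl⟩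

theorem commute_τ_of_normalizes {x : G} (hxE : x ∈ Subgroup.normalizer (E : Set G))
    (hxU : x ∈ Subgroup.centralizer (D.U : Set G)) : Commute (D.act x) D.τ := by
  have hm : x * D.t * x⁻¹ * D.t⁻¹ ∈ E :=
    mul_mem ((Subgroup.mem_normalizer_iff.1 hxE _).1 D.t_mem) (inv_mem D.t_mem)
  have hc : x * D.t * x⁻¹ * D.t⁻¹ ∈ Subgroup.centralizer (D.U : Set G) := by
    refine Subgroup.mem_centralizer_iff.2 fun u hu => ?_
    have h1 := D.conj_eq_on_U hxU D.t_mem (u := D.t⁻¹ * u * D.t) (by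
      simpa using (Subgroup.mem_normalizer_iff.1 (inv_mem (D.E_norm_U D.t_mem)) u).1 hu)
    have key : x * D.t * x⁻¹ * D.t⁻¹ * u * (x * D.t * x⁻¹ * D.t⁻¹)⁻¹ = u := by
      calc x * D.t * x⁻¹ * D.t⁻¹ * u * (x * D.t * x⁻¹ * D.t⁻¹)⁻¹
          = x * D.t * x⁻¹ * (D.t⁻¹ * u * D.t) * (x * D.t * x⁻¹)⁻¹ := by group
        _ = D.t * (D.t⁻¹ * u * D.t) * D.t⁻¹ := h1
        _ = u := by group
    exact (mul_inv_eq_iff_eq_mul.1 key).symm
  have h := D.act_Q (D.mem_Q_of_centralizes_U hm hc)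
  rw [map_mul, map_mul, map_mul, map_inv, map_inv] at h
  exact mul_inv_eq_iff_eq_mul.1 (mul_inv_eq_one.1 h)

/-- The centralizer of `U` commutes with the involution on the section. -/
theorem commute_τ [Finite G] [Finite F] {c : G} (hc : c ∈ Subgroup.centralizer (D.U : Set G)) :
    Commute (D.act c) D.τ := by
  -- it is enough that the conjugate of the involution commutes with it
  have key : ∀ c ∈ Subgroup.centralizer (D.U : Set G), Commute (D.act (D.t * c * D.t⁻¹ * c⁻¹)) D.τ →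
      Commute (D.act c) D.τ := by
    intro c hc hδ
    have h1 : D.act (c * D.t * c⁻¹) = (D.act (D.t * c * D.t⁻¹ * c⁻¹))⁻¹ * D.τ := by
      rw [Exc.τ, ← map_inv, ← map_mul]
      congr 1
      group
    have h2 : Commute (D.act (c * D.t * c⁻¹)) D.τ := h1 ▸ hδ.inv_left.mul_left (Commute.refl _)
    have h3 := D.eq_of_commute hc h2
    rw [map_mul, map_mul, map_inv] at h3
    exact mul_inv_eq_iff_eq_mul.1 h3
  have hδC2 : ∀ c ∈ Subgroup.centralizer (D.U : Set G), D.t * c * D.t⁻¹ * c⁻¹ ∈ D.C2 := fun c hc => by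
    have := inv_mem (D.conj_comm_mem_C2 hc D.t_mem)
    convert this using 1
    group
  have hstep : ∀ c ∈ D.C2, Commute (D.act c) D.τ := fun c hc =>
    key c (D.mem_C2.1 hc).1 (D.commute_τ_of_normalizes (D.t_comm_mem_normalizer hc)
      (D.mem_C2.1 (hδC2 c (D.mem_C2.1 hc).1)).1)
  exact key c hc (hstep _ (hδC2 c hc))

/-- The commutators of `E` with the centralizer of `U` lie in a `3`-group normalized by `E` and `B`. -/
theorem exists_pgroup_commutators [Finite G] [Finite F] :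
    ∃ R : Subgroup G, IsPGroup 3 R ∧ B ≤ Subgroup.normalizer (R : Set G) ∧ E ≤ Subgroup.normalizer (R : Set G) ∧
      ∀ c ∈ Subgroup.centralizer (D.U : Set G), ∀ e ∈ E, c * e * c⁻¹ * e⁻¹ ∈ R := by
  haveI := D.char3
  set Dg : Subgroup G := Subgroup.closure {d | ∃ c ∈ Subgroup.centralizer (D.U : Set G), ∃ e ∈ E, c * e * c⁻¹ * e⁻¹ = d}
    with hDg
  have hgC : Dg ≤ D.C2 := (Subgroup.closure_le _).2 fun d ⟨c, hc, e, he, hd⟩ => hd ▸ D.conj_comm_mem_C2 hc he
  -- trivial action on the fixed part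
  have hA : ∀ d ∈ Dg, ∀ a ∈ D.A0, D.act d a = a := by
    intro d hd
    induction hd using Subgroup.closure_induction with
    | mem d hd =>
      obtain ⟨c, hc, e, he, rfl⟩ := hd
      intro a ha
      have hci : D.act c⁻¹ a ∈ D.A0 := D.act_mem_A0 (D.commute_τ (inv_mem hc)) ha
      have he' : D.act e⁻¹ a = a := D.act_E_A0 ⟨e⁻¹, inv_mem he⟩ ha
      rw [map_mul, map_mul, map_mul, MulAut.mul_apply, MulAut.mul_apply, MulAut.mul_apply, he',
        D.act_E_A0 ⟨e, he⟩ hci, ← MulAut.mul_apply, ← map_mul, mul_inv_cancel, map_one, MulAut.one_apply]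
    | one => intro a _; rw [map_one, MulAut.one_apply]
    | mul x y _ _ ihx ihy => intro a ha; rw [map_mul, MulAut.mul_apply, ihy a ha, ihx a ha]
    | inv x _ ihx =>
      intro a ha
      nth_rw 1 [← ihx a ha]
      rw [map_inv, MulAut.inv_apply_self]
  have hconj : ∀ g : G, g ∈ Subgroup.normalizer (E : Set G) → g ∈ Subgroup.normalizer (D.U : Set G) →
      ∀ x ∈ Dg, g * x * g⁻¹ ∈ Dg := by
    intro g hgE hgU x hx
    have hle : Dg ≤ Dg.comap (MulAut.conj g).toMonoidHom := (Subgroup.closure_le _).2 fun d ⟨c, hc, e, he, hd⟩ => by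
      refine Subgroup.subset_closure ⟨g * c * g⁻¹, ?_, g * e * g⁻¹, (Subgroup.mem_normalizer_iff.1 hgE e).1 he, ?_⟩
      · refine Subgroup.mem_centralizer_iff.2 fun u hu => ?_
        have h1 := Subgroup.mem_centralizer_iff.1 hc (g⁻¹ * u * g) (by
          simpa using (Subgroup.mem_normalizer_iff.1 (inv_mem hgU) u).1 hu)
        calc u * (g * c * g⁻¹) = g * ((g⁻¹ * u * g) * c) * g⁻¹ := by group
          _ = g * (c * (g⁻¹ * u * g)) * g⁻¹ := by rw [h1]
          _ = g * c * g⁻¹ * u := by group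
      · show _ = g * d * g⁻¹
        rw [← hd]; group
    exact hle hx
  have hnorm : ∀ X : Subgroup G, X ≤ Subgroup.normalizer (E : Set G) → X ≤ Subgroup.normalizer (D.U : Set G) →
      X ≤ Subgroup.normalizer (Dg : Set G) := fun X h1 h2 g hg => by
    rw [Subgroup.mem_normalizer_iff]
    exact fun x => ⟨hconj g (h1 hg) (h2 hg) x, fun hx => by
      simpa [mul_assoc] using hconj g⁻¹ (inv_mem (h1 hg)) (inv_mem (h2 hg)) _ hx⟩
  have hEn := hnorm E Subgroup.le_normalizer D.E_norm_U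
  refine ⟨Dg, ?_, hnorm B D.B_norm_E D.B_norm_U, hEn, fun c hc e he => Subgroup.subset_closure ⟨c, hc, e, he, rfl⟩⟩
  -- the image in `SL₂`
  have hphi : ∀ d ∈ Dg, ∃ s, D.IsPhi d s := fun d hd =>
    D.exists_isPhi (D.mem_C2.1 (hgC hd)).2.1 fun a ha =>
      D.act_mem_P (D.commute_τ (D.mem_C2.1 (hgC hd)).1) ha
  let S : Subgroup SL(2, F) :=
    { carrier := {s | ∃ d ∈ Dg, D.IsPhi d s}
      one_mem' := ⟨1, one_mem _, D.isPhi_one⟩
      mul_mem' := fun ⟨d, hd, hs⟩ ⟨d', hd', hs'⟩ => ⟨d * d', mul_mem hd hd', D.isPhi_mul hs hs'⟩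
      inv_mem' := fun ⟨d, hd, hs⟩ => ⟨d⁻¹, inv_mem hd, D.isPhi_inv hs⟩ }
  have hS : S = ⊥ := by
    refine eq_bot_of_odd S ?_ ?_
    · intro g hg s ⟨d, hd, hs⟩
      rw [← D.ρ_range] at hg
      obtain ⟨e, rfl⟩ := hg
      exact ⟨(e : G) * d * (e : G)⁻¹, (Subgroup.mem_normalizer_iff.1 (hEn e.2) d).1 hd,
        D.isPhi_mul (D.isPhi_mul (D.isPhi_E e) hs) (D.isPhi_inv (D.isPhi_E e))⟩
    · intro s hs
      by_contra hodd
      obtain ⟨k, hk⟩ := Nat.not_odd_iff_even.1 hodd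
      have hpos := orderOf_pos s
      have hsk : s ^ k * s ^ k = 1 := by rw [← pow_add, ← hk, pow_orderOf_eq_one]
      have hsk1 : s ^ k ≠ 1 := pow_ne_one_of_lt_orderOf (by omega) (by omega)
      have hneg := (eq_or_eq_neg_of_sq hsk).resolve_left hsk1
      have hm : (-1 : SL(2, F)) ∈ S := hneg ▸ pow_mem hs k
      obtain ⟨d, hd, hd'⟩ := hm
      have hact : D.act d = D.τ := by
        refine D.act_eq_of_agree (fun p hp => ?_) (fun a ha => by rw [hA d hd a ha, D.mem_A0.1 ha])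
        obtain ⟨h1, e1⟩ := hd' ⟨p, hp⟩
        obtain ⟨h2, e2⟩ := D.isPhi_t ⟨p, hp⟩
        exact congrArg Subtype.val (D.ψP_bij.1 (Multiplicative.toAdd.injective (e1.trans e2.symm)))
      refine D.not_sep (D.mem_C2.1 (hgC hd)).2.1 (D.mem_C2.1 (hgC hd)).2.2 (Or.inr ⟨hact, fun u hu => ?_⟩)
      rw [← Subgroup.mem_centralizer_iff.1 (D.mem_C2.1 (hgC hd)).1 u hu, mul_inv_cancel_right]
  refine D.isPGroup_K2.to_le fun d hd => Subgroup.mem_inf.2 ⟨hgC hd, ?_⟩
  show D.act d = 1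
  obtain ⟨s, hs⟩ := hphi d hd
  have hs1 : s = 1 := Subgroup.mem_bot.1 (hS ▸ (⟨d, hd, hs⟩ : s ∈ S))
  refine D.act_eq_of_agree (fun p hp => ?_) (fun a ha => by rw [hA d hd a ha, MulAut.one_apply])
  obtain ⟨h1, e1⟩ := hs ⟨p, hp⟩
  rw [hs1, Matrix.SpecialLinearGroup.coe_one, Matrix.one_mulVec] at e1
  rw [MulAut.one_apply]
  exact congrArg Subtype.val (D.ψP_bij.1 (Multiplicative.toAdd.injective e1))

end Exc

end CfsgLib.BaumannBlock.CentModule
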