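import Mathlib
import Cfsg.Agent.BaumannBlock.CentModule.Main
import Cfsg.Agent.BaumannBlock.Structure
import Cfsg.Agent.LocalP.ThompsonJ
import Cfsg.Agent.S0607
import Cfsg.Agent.S2984
import Cfsg.Agent.Eq.Def_BaumannBlocks

/-!
A `B(T)`-block is normalized by the centralizer of its module.
-/

set_option autoImplicit false

open scoped MatrixGroups commutatorElement

namespace CfsgLib.BaumannBlock.CentModule

open Cfsg

variable {G : Type*} [Group G] {p : ℕ}

theorem normalizer_le_normalizer_pCoreOf [Finite G] [Fact p.Prime] (E : Subgroup G) :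
    Subgroup.normalizer (E : Set G) ≤ Subgroup.normalizer (pCoreOf p E : Set G) := by
  intro g hg
  have hgE := Subgroup.mem_normalizer_iff_map_conj_eq.1 hg
  rw [Subgroup.mem_normalizer_iff_map_conj_eq]
  refine Subgroup.eq_of_le_of_card_ge (le_pCoreOf ?_ ?_ ((isPGroup_pCoreOf E).map _)) ?_
  · exact (Subgroup.map_mono (pCoreOf_le E)).trans hgE.le
  · conv_lhs => rw [← hgE]
    exact (Subgroup.map_mono (le_normalizer_pCoreOf E)).trans (Subgroup.le_normalizer_map _)
  · rw [Subgroup.card_map_of_injective (MulAut.conj g).injective]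

theorem mem_omegaOneCenter {X : Subgroup G} {x : G} (hx : x ∈ X) (hc : ∀ y ∈ X, x * y = y * x)
    (hp : x ^ p = 1) : x ∈ omegaOneCenter p X :=
  Subgroup.subset_closure ⟨⟨hx, Subgroup.mem_centralizer_iff.2 fun y hy => (hc y hy).symm⟩, hp⟩

theorem normalizer_le_normalizer_omegaOneCenter (X : Subgroup G) :
    Subgroup.normalizer (X : Set G) ≤ Subgroup.normalizer (omegaOneCenter p X : Set G) := by
  intro g hg
  rw [Subgroup.mem_normalizer_iff_map_conj_eq] at hg ⊢
  show (omegaOneCenter p X).map (MulAut.conj g).toMonoidHom = _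
  change X.map (MulAut.conj g).toMonoidHom = X at hg
  rw [omegaOneCenter, ← map_omegaOne, Subgroup.map_inf _ _ _ (MulAut.conj g).injective, ← map_centralizer, hg]

theorem normalizer_le_normalizer_centralizer (X : Subgroup G) :
    Subgroup.normalizer (X : Set G) ≤ Subgroup.normalizer (Subgroup.centralizer (X : Set G) : Set G) := by
  intro g hg
  rw [Subgroup.mem_normalizer_iff_map_conj_eq] at hg ⊢
  show (Subgroup.centralizer (X : Set G)).map (MulAut.conj g).toMonoidHom = _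
  rw [← map_centralizer]
  exact congrArg (fun K : Subgroup G => Subgroup.centralizer (K : Set G)) hg

/-- If the commutators lie in an invariant `p`-subgroup, the block is normalized. -/
theorem mem_normalizer_of_pgroup [Finite G] [Fact p.Prime] (T : Sylow p G) {E : Subgroup G}
    (hres : pResidualOf p E = E) (hcomm : ⁅E, baumannSubgroupOf p (T : Subgroup G)⁆ = E)
    {C R : Subgroup G} (hR : IsPGroup p R)
    (hBR : baumannSubgroupOf p (T : Subgroup G) ≤ Subgroup.normalizer (R : Set G))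
    (hER : E ≤ Subgroup.normalizer (R : Set G)) (h : ∀ c ∈ C, ∀ e ∈ E, c * e * c⁻¹ * e⁻¹ ∈ R) :
    C ≤ Subgroup.normalizer (E : Set G) := by
  have hRN := le_normalizer_block T hres hcomm hR hBR hER
  have key : ∀ c ∈ C, ∀ e ∈ E, c * e * c⁻¹ ∈ E := by
    intro c hc
    suffices hle : pResidualOf p E ≤ E.comap (MulAut.conj c).toMonoidHom from fun e he => hle (hres.symm ▸ he)
    rw [mem_pResidualOf_iff_closure, Subgroup.closure_le]
    rintro x ⟨hx, hxc⟩
    refine mem_of_coprime_of_mem_sup hR hRN ?_ ?_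
    · have := mul_mem (Subgroup.mem_sup_right (S := E) (h c hc x hx)) (Subgroup.mem_sup_left (T := R) hx)
      rwa [inv_mul_cancel_right] at this
    · show (orderOf (c * x * c⁻¹)).Coprime p
      rwa [show orderOf (c * x * c⁻¹) = orderOf x by rw [← MulAut.conj_apply, MulEquiv.orderOf_eq]]
  intro c hc
  rw [Subgroup.mem_normalizer_iff]
  exact fun e => ⟨key c hc e, fun he => by simpa [mul_assoc] using key c⁻¹ (inv_mem hc) _ he⟩

/-- Coprime action: commutators into an abelian layer centralized modulo `U` vanish modulo `U`. -/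
theorem commutator_mem_of_residual [Finite G] [Fact p.Prime] {E W U : Subgroup G} (hres : pResidualOf p E = E)
    (hW : IsPGroup p W) (hUW : U ≤ W) (hWc : ∀ a ∈ W, ∀ b ∈ W, a * b = b * a)
    (hWE : ∀ w ∈ W, ∀ e ∈ E, e * w * e⁻¹ * w⁻¹ ∈ U) (hEU : E ≤ Subgroup.normalizer (U : Set G))
    {o : G} (ho : ∀ e ∈ E, ⁅o, e⁆ ∈ W) : ∀ e ∈ E, ⁅o, e⁆ ∈ U := by
  haveI hn : (U.subgroupOf W).Normal := ⟨fun u hu w => by
    show (w : G) * u * (w : G)⁻¹ ∈ U
    rw [hWc w w.2 u u.2, mul_inv_cancel_right]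
    exact hu⟩
  let φ : E →* W ⧸ U.subgroupOf W :=
    MonoidHom.mk' (fun e => ((⟨⁅o, (e : G)⁆, ho e e.2⟩ : W) : W ⧸ U.subgroupOf W)) (fun e f => by
      rw [← QuotientGroup.mk_mul, eq_comm, QuotientGroup.eq]
      show (⁅o, (e : G)⁆ * ⁅o, (f : G)⁆)⁻¹ * ⁅o, ((e * f : E) : G)⁆ ∈ U
      rw [Subgroup.coe_mul, show (⁅o, (e : G)⁆ * ⁅o, (f : G)⁆)⁻¹ * ⁅o, (e : G) * f⁆ =
        ⁅o, (f : G)⁆⁻¹ * ((e : G) * ⁅o, (f : G)⁆ * (e : G)⁻¹) by simp only [commutatorElement_def]; group]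
      have h := hWE _ (ho f f.2) e e.2
      have hw : (e : G) * ⁅o, (f : G)⁆ * (e : G)⁻¹ =
          ((e : G) * ⁅o, (f : G)⁆ * (e : G)⁻¹ * ⁅o, (f : G)⁆⁻¹) * ⁅o, (f : G)⁆ := by group
      rw [hw, hWc _ (hUW h) _ (ho f f.2), inv_mul_cancel_left]
      exact h)
  have hq : IsPGroup p (W ⧸ U.subgroupOf W) := hW.to_quotient _
  intro e he
  have hle : pResidualOf p E ≤ φ.ker.map E.subtype := by
    rw [mem_pResidualOf_iff_closure, Subgroup.closure_le]
    rintro x ⟨hx, hcop⟩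
    refine ⟨⟨x, hx⟩, ?_, rfl⟩
    show φ ⟨x, hx⟩ = 1
    obtain ⟨k, hk⟩ := hq (φ ⟨x, hx⟩)
    have h1 : orderOf (φ ⟨x, hx⟩) ∣ orderOf x := by
      rw [← Subgroup.orderOf_mk (a := x) (ha := hx)]
      exact orderOf_map_dvd φ _
    exact orderOf_eq_one_iff.1 (Nat.eq_one_of_dvd_coprimes (hcop.pow_right k) h1 (orderOf_dvd_of_pow_eq_one hk))
  obtain ⟨e', he', rfl⟩ := hle (hres.symm ▸ he)
  have hz : φ e' = 1 := he'
  exact (QuotientGroup.eq_one_iff (N := U.subgroupOf W) _).1 hz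

/-- The case where `E` centralizes `O / U`. -/
theorem centralizer_le_normalizer_of_trivial [Finite G] [Fact p.Prime] (T : Sylow p G) {E : Subgroup G}
    (hres : pResidualOf p E = E) (hcomm : ⁅E, baumannSubgroupOf p (T : Subgroup G)⁆ = E)
    {O U : Subgroup G} [hOn : O.Normal] (hOp : IsPGroup p O) (hOc : Subgroup.centralizer (O : Set G) ≤ O)
    (hUO : U ≤ O) (hEU : E ≤ Subgroup.normalizer (U : Set G))
    (hBU : baumannSubgroupOf p (T : Subgroup G) ≤ Subgroup.normalizer (U : Set G))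
    (hOE : ∀ o ∈ O, ∀ e ∈ E, ⁅o, e⁆ ∈ U) :
    Subgroup.centralizer (U : Set G) ≤ Subgroup.normalizer (E : Set G) := by
  let S : Subgroup G :=
    { carrier := {g | g ∈ Subgroup.normalizer (U : Set G) ∧ ∀ o ∈ O, g * o * g⁻¹ * o⁻¹ ∈ U}
      one_mem' := ⟨one_mem _, fun o _ => by simp⟩
      mul_mem' := by
        rintro a b ⟨ha, ha'⟩ ⟨hb, hb'⟩
        refine ⟨mul_mem ha hb, fun o ho => ?_⟩
        rw [show a * b * o * (a * b)⁻¹ * o⁻¹ = a * (b * o * b⁻¹ * o⁻¹) * a⁻¹ * (a * o * a⁻¹ * o⁻¹) by group]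
        exact mul_mem ((Subgroup.mem_normalizer_iff.1 ha _).1 (hb' o ho)) (ha' o ho)
      inv_mem' := by
        rintro a ⟨ha, ha'⟩
        refine ⟨inv_mem ha, fun o ho => ?_⟩
        rw [show a⁻¹ * o * a⁻¹⁻¹ * o⁻¹ = a⁻¹ * (a * o * a⁻¹ * o⁻¹)⁻¹ * a⁻¹⁻¹ by group]
        exact (Subgroup.mem_normalizer_iff.1 (inv_mem ha) _).1 (inv_mem (ha' o ho)) }
  have hES : ∀ e ∈ E, e ∈ S := fun e he => ⟨hEU he, fun o ho => by
    have := inv_mem (hOE o ho e he)
    rwa [commutatorElement_inv, commutatorElement_def] at this⟩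
  have hSconj : ∀ c ∈ Subgroup.normalizer (U : Set G), ∀ g ∈ S, c * g * c⁻¹ ∈ S := fun c hc g hg =>
    ⟨mul_mem (mul_mem hc hg.1) (inv_mem hc), fun o ho => by
      have := (Subgroup.mem_normalizer_iff.1 hc _).1 (hg.2 _ (hOn.conj_mem o ho c⁻¹))
      simpa [mul_assoc] using this⟩
  set Dg := Subgroup.closure {d | ∃ c ∈ Subgroup.centralizer (U : Set G), ∃ e ∈ E, c * e * c⁻¹ * e⁻¹ = d} with hDg
  have hCN : Subgroup.centralizer (U : Set G) ≤ Subgroup.normalizer (U : Set G) := Subgroup.centralizer_le_normalizer _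
  have hDS : Dg ≤ Subgroup.centralizer (U : Set G) ⊓ S := by
    refine (Subgroup.closure_le _).2 fun d ⟨c, hc, e, he, hd⟩ => ?_
    rw [← hd]
    refine Subgroup.mem_inf.2 ⟨?_, mul_mem (hSconj c (hCN hc) e (hES e he)) (inv_mem (hES e he))⟩
    rw [show c * e * c⁻¹ * e⁻¹ = c * (e * c⁻¹ * e⁻¹) by group]
    exact mul_mem hc ((Subgroup.mem_normalizer_iff.1 (normalizer_le_normalizer_centralizer U (hEU he)) _).1 (inv_mem hc))
  have hDp : IsPGroup p Dg := by
    refine CfsgLib.LocalP.isPGroup_of_forall_coprime _ fun x hx hcop => ?_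
    obtain ⟨h1, -, h2⟩ := Subgroup.mem_inf.1 (hDS hx)
    refine CfsgLib.LocalP.eq_one_of_mem_of_coprime hOp (hOc (Subgroup.mem_centralizer_iff.2 fun o ho => ?_)) hcop
    refine (commute_of_stabilizes hcop (inv_mul_cancel_right _ _).symm
      (Subgroup.mem_centralizer_iff.1 h1 _ (h2 o ho)).symm ?_).symm
    obtain ⟨k, hk⟩ := hOp ⟨_, hUO (h2 o ho)⟩
    exact ⟨k, congrArg Subtype.val hk⟩
  have hconj : ∀ g : G, g ∈ Subgroup.normalizer (E : Set G) → g ∈ Subgroup.normalizer (U : Set G) →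
      ∀ x ∈ Dg, g * x * g⁻¹ ∈ Dg := by
    intro g hgE hgU x hx
    have hle : Dg ≤ Dg.comap (MulAut.conj g).toMonoidHom := (Subgroup.closure_le _).2 fun d ⟨c, hc, e, he, hd⟩ => by
      refine Subgroup.subset_closure ⟨g * c * g⁻¹,
        (Subgroup.mem_normalizer_iff.1 (normalizer_le_normalizer_centralizer U hgU) c).1 hc,
        g * e * g⁻¹, (Subgroup.mem_normalizer_iff.1 hgE e).1 he, ?_⟩
      show _ = g * d * g⁻¹
      rw [← hd]; group
    exact hle hx
  have hnorm : ∀ X : Subgroup G, X ≤ Subgroup.normalizer (E : Set G) → X ≤ Subgroup.normalizer (U : Set G) →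
      X ≤ Subgroup.normalizer (Dg : Set G) := fun X h1 h2 g hg => by
    rw [Subgroup.mem_normalizer_iff]
    exact fun x => ⟨hconj g (h1 hg) (h2 hg) x, fun hx => by
      simpa [mul_assoc] using hconj g⁻¹ (inv_mem (h1 hg)) (inv_mem (h2 hg)) _ hx⟩
  exact mem_normalizer_of_pgroup T hres hcomm hDp (hnorm _ (le_normalizer_of_commutator_eq hcomm) hBU)
    (hnorm E Subgroup.le_normalizer hEU) fun c hc e he => Subgroup.subset_closure ⟨c, hc, e, he, rfl⟩

/-- Commutators with a power of `b` stay in an invariant subgroup. -/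
theorem commutator_zpowers_le {X K : Subgroup G} {b : G} (hbK : b ∈ Subgroup.normalizer (K : Set G))
    (h : ∀ q ∈ X, ⁅q, b⁆ ∈ K) : ⁅X, Subgroup.zpowers b⁆ ≤ K := by
  let S : Subgroup G :=
    { carrier := {g | g ∈ Subgroup.normalizer (K : Set G) ∧ ∀ q ∈ X, ⁅q, g⁆ ∈ K}
      one_mem' := ⟨one_mem _, fun q _ => by rw [commutatorElement_one_right]; exact one_mem _⟩
      mul_mem' := by
        rintro g k ⟨hg, hg'⟩ ⟨hk, hk'⟩
        refine ⟨mul_mem hg hk, fun q hq => ?_⟩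
        rw [show ⁅q, g * k⁆ = ⁅q, g⁆ * (g * ⁅q, k⁆ * g⁻¹) by simp only [commutatorElement_def]; group]
        exact mul_mem (hg' q hq) ((Subgroup.mem_normalizer_iff.1 hg _).1 (hk' q hq))
      inv_mem' := by
        rintro g ⟨hg, hg'⟩
        refine ⟨inv_mem hg, fun q hq => ?_⟩
        rw [show ⁅q, g⁻¹⁆ = g⁻¹ * ⁅q, g⁆⁻¹ * g⁻¹⁻¹ by simp only [commutatorElement_def]; group]
        exact (Subgroup.mem_normalizer_iff.1 (inv_mem hg) _).1 (inv_mem (hg' q hq)) }
  have hS : Subgroup.zpowers b ≤ S := Subgroup.zpowers_le.2 ⟨hbK, h⟩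
  rw [Subgroup.commutator_le]
  exact fun q hq g hg => (hS hg).2 q hq

set_option maxHeartbeats 2000000 in
/-- An exceptional block, not centralizing `O / W`, satisfies the working hypotheses. -/
theorem exists_exc_full [Finite G] [Fact (Nat.Prime 3)]
    (hG : Subgroup.centralizer (pCore 3 G : Set G) ≤ pCore 3 G) (T : Sylow 3 G) {E : Subgroup G}
    (hE : IsBaumannBlock 3 (T : Subgroup G) E)
    (hnot : ¬ ⁅pCore 3 G, E⁆ ≤ omegaOneCenter 3 (pCoreOf 3 E)) :
    ∃ (F : Type) (_ : Field F) (_ : Finite F) (D : Exc E (baumannSubgroupOf 3 (T : Subgroup G)) F),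
      D.U = ⁅omegaOneCenter 3 (pCore 3 G), E⁆ ∧ D.O = pCore 3 G ∧ D.V = omegaOneCenter 3 (pCore 3 G) ∧
        D.Q = pCoreOf 3 E ∧
        D.Z = omegaOneCenter 3 (pCoreOf 3 E) ⊓ Subgroup.centralizer (E : Set G) := by
  obtain ⟨hUeq, hUW, -, hUne, hUZW, hON⟩ := block_commutator_eq hG T hE
  have hJne := (Cfsg.Agent.S2984.result hG T E hE).2.2
  rw [hUeq] at hJne
  obtain ⟨hres, hcomm, hQE, -, hcases⟩ := id hE
  set O := pCore 3 G with hO
  set V := omegaOneCenter 3 O with hV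
  set B := baumannSubgroupOf 3 (T : Subgroup G) with hB
  set Q := pCoreOf 3 E with hQ
  set W := omegaOneCenter 3 Q with hW
  set Z := W ⊓ Subgroup.centralizer (E : Set G) with hZ
  set U := ⁅V, E⁆ with hU
  have hOn : O.Normal := CfsgLib.Constrained.instNormalPCore 3
  have hVn : V.Normal := by
    refine Subgroup.normalizer_eq_top_iff.1 (top_le_iff.1 ?_)
    rw [← Subgroup.normalizer_eq_top_iff.2 hOn]
    exact normalizer_le_normalizer_omegaOneCenter O
  have hOp : IsPGroup 3 O := CfsgLib.Constrained.isPGroup_pCore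
  have hBE : B ≤ Subgroup.normalizer (E : Set G) := le_normalizer_of_commutator_eq hcomm
  have hEQ : E ≤ Subgroup.normalizer (Q : Set G) := le_normalizer_pCoreOf E
  have hEW : E ≤ Subgroup.normalizer (W : Set G) := hEQ.trans (normalizer_le_normalizer_omegaOneCenter Q)
  have hQle : Q ≤ E := pCoreOf_le E
  have hWQ : W ≤ Q := omegaOneCenter_le Q
  have hWc : ∀ w ∈ W, ∀ q ∈ Q, w * q = q * w := fun w hw q hq =>
    (Subgroup.mem_centralizer_iff.1 (omegaOneCenter_le_centralizer Q hw) q hq).symm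
  have hVc : ∀ v ∈ V, ∀ o ∈ O, v * o = o * v := fun v hv o ho =>
    (Subgroup.mem_centralizer_iff.1 (omegaOneCenter_le_centralizer O hv) o ho).symm
  have hOconj : ∀ o ∈ O, ∀ e ∈ E, ⁅o, e⁆ ∈ O ⊓ E := fun o ho e he => by
    rw [Subgroup.mem_inf, commutatorElement_def]
    refine ⟨?_, mul_mem ((Subgroup.mem_normalizer_iff.1 (hON ho) e).1 he) (inv_mem he)⟩
    rw [show o * e * o⁻¹ * e⁻¹ = o * (e * o⁻¹ * e⁻¹) by group]
    exact mul_mem ho (hOn.conj_mem _ (inv_mem ho) e)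
  have hOEQ : O ⊓ E ≤ Q := by
    refine le_pCoreOf inf_le_right ?_ (hOp.to_le inf_le_left)
    intro e he
    rw [Subgroup.mem_normalizer_iff_map_conj_eq, Subgroup.map_inf _ _ _ (MulAut.conj e).injective,
      Subgroup.mem_normalizer_iff_map_conj_eq.1 (Subgroup.le_normalizer he),
      Subgroup.mem_normalizer_iff_map_conj_eq.1 (by rw [Subgroup.normalizer_eq_top_iff.2 hOn]; exact Subgroup.mem_top e)]
  have hne : ¬ Q ≤ W := fun h => hnot (Subgroup.commutator_le.2 fun o ho e he => h (hOEQ (hOconj o ho e he)))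
  -- extract the linear exceptional data
  obtain ⟨F, hF, hFt, n, hn, ⟨iso⟩, hmod, hq⟩ : ∃ (F : Type) (_ : Field F) (_ : Fintype F) (n : ℕ),
      Fintype.card F = 3 ^ n ∧ Nonempty (↥E ⧸ pCore 3 ↥E ≃* ↥(commutator (Matrix.SpecialLinearGroup (Fin 2) F))) ∧
      ActsAsSL2OnSection F (commutator (Matrix.SpecialLinearGroup (Fin 2) F)) E W Z ∧
      (ActsAsSL2OnSection F (commutator (Matrix.SpecialLinearGroup (Fin 2) F)) E Q W ∧
            ⁅Q, Q⁆ = Z ∧ E ⊓ Subgroup.centralizer (E : Set G) = Z ∧ Nat.card ↥Z = 3 ^ n ∧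
            ∀ b : G, b ∈ B → b ∉ Subgroup.centralizer (W : Set G) →
              ¬ ⁅⁅Q, Subgroup.zpowers b⁆, Subgroup.zpowers b⁆ ≤ Z) := by
    rcases hcases with ⟨F, h1, h2, n, hn, hiso, hmod, hq | ⟨-, ha, hb, -, hc, hd, he⟩⟩ | ⟨h2, -⟩
    · exact absurd hq.le hne
    · exact ⟨F, h1, h2, n, hn, hiso, hmod, ha, hb, hc, hc ▸ hd, fun b hb' hb'' => by
        have := he b hb' hb''
        rwa [hc] at this⟩
    · norm_num at h2
  obtain ⟨hmodQ, hQQ, hZE, hcardZ, hnq⟩ := hq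
  haveI hchar : CharP F 3 := by
    refine (CharP.charP_iff_prime_eq_zero (R := F) Nat.prime_three).2 ?_
    have h0 : ((Fintype.card F : ℕ) : F) = 0 := FiniteField.cast_card_eq_zero F
    rw [hn, Nat.cast_pow] at h0
    rcases Nat.eq_zero_or_pos n with h | h
    · rw [h, pow_zero] at hn
      exact absurd hn Fintype.one_lt_card.ne'
    · exact (pow_eq_zero_iff h.ne').1 h0
  -- the two representations
  obtain ⟨-, -, ρ₁, ψ₁, hρ₁, hψ₁, hker₁, heq₁⟩ := hmod
  obtain ⟨-, -, ρ₂, ψ₂, hρ₂, hψ₂, hker₂, heq₂⟩ := hmodQ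
  have hidx : (Q.subgroupOf E).index = Nat.card (commutator SL(2, F)) := by
    rw [hQ, pCoreOf, Subgroup.subgroupOf, Subgroup.comap_map_eq_self_of_injective E.subtype_injective,
      Subgroup.index_eq_card]
    exact Nat.card_congr iso.toEquiv
  have hkereq : ∀ ρ : E →* SL(2, F), ρ.range = commutator SL(2, F) → (∀ e : E, (e : G) ∈ Q → ρ e = 1) →
      ∀ e : E, ρ e = 1 ↔ (e : G) ∈ Q := by
    intro ρ hr hQk e
    refine ⟨fun he => ?_, hQk e⟩
    have hle : Q.subgroupOf E ≤ ρ.ker := fun x hx => hQk x hx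
    have hi : ρ.ker.index = (Q.subgroupOf E).index := by rw [Subgroup.index_ker, hr, hidx]
    have h1 := Subgroup.relIndex_mul_index hle
    rw [hi] at h1
    have h2 : (Q.subgroupOf E).relIndex ρ.ker = 1 :=
      Nat.eq_of_mul_eq_mul_right (Nat.pos_of_ne_zero Subgroup.index_ne_zero_of_finite) (by rw [one_mul]; exact h1)
    exact Subgroup.relIndex_eq_one.1 h2 he
  have hQW : ∀ q ∈ Q, ∀ q' ∈ Q, ⁅q, q'⁆ ∈ Z := fun q hq q' hq' => hQQ ▸ Subgroup.commutator_mem_commutator hq hq'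
  have hρ₁Q : ∀ e : E, (e : G) ∈ Q → ρ₁ e = 1 := fun e he => mulVec_injective fun x => by
    obtain ⟨w, hw⟩ := hψ₁ (Multiplicative.ofAdd x)
    obtain ⟨w', hw', hv⟩ := heq₁ e w
    have : w' = w := Subtype.ext (by rw [hw', ← hWc w w.2 _ he, mul_inv_cancel_right])
    rw [this, hw] at hv
    rw [Matrix.SpecialLinearGroup.coe_one, Matrix.one_mulVec]
    exact hv.symm
  have hρ₂Q : ∀ e : E, (e : G) ∈ Q → ρ₂ e = 1 := fun e he => mulVec_injective fun x => by
    obtain ⟨q, hq⟩ := hψ₂ (Multiplicative.ofAdd x)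
    obtain ⟨q', hq', hv⟩ := heq₂ e q
    have hc : ⁅(e : G), (q : G)⁆ ∈ W := (inf_le_left : Z ≤ W) (hQW _ he _ q.2)
    have h1 : q' = ⟨_, hWQ hc⟩ * q := Subtype.ext (by
      show (q' : G) = ⁅(e : G), (q : G)⁆ * q
      rw [hq', commutatorElement_def]; group)
    rw [h1, map_mul, (hker₂ ⟨_, hWQ hc⟩).2 hc, one_mul, hq] at hv
    rw [Matrix.SpecialLinearGroup.coe_one, Matrix.one_mulVec]
    exact hv.symm
  have hk₁ := hkereq ρ₁ hρ₁ hρ₁Q
  have hk₂ := hkereq ρ₂ hρ₂ hρ₂Q
  -- the involution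
  obtain ⟨t, ht2, htρ⟩ : ∃ t : E, t * t = 1 ∧ ρ₁ t = -1 := by
    obtain ⟨e, he⟩ : ∃ e, ρ₁ e = -1 := by
      have h := neg_one_mem (F := F)
      rw [← hρ₁] at h
      exact h
    obtain ⟨a, m, hm, ham⟩ := Nat.exists_eq_pow_mul_and_not_dvd (orderOf_pos e).ne' 2 (by norm_num)
    have hρ : ρ₁ (e ^ m) = -1 := by rw [map_pow, he, (Nat.odd_iff.2 (by omega) : Odd m).neg_one_pow]
    refine ⟨e ^ m, ?_, hρ⟩
    have hQmem : ((e ^ m * e ^ m : E) : G) ∈ Q := (hk₁ _).1 (by rw [map_mul, hρ, neg_mul_neg, one_mul])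
    obtain ⟨k, hk⟩ := isPGroup_pCoreOf (p := 3) E ⟨_, hQmem⟩
    have hk' : (e ^ m * e ^ m) ^ 3 ^ k = 1 := Subtype.ext (by
      rw [Subgroup.coe_pow, Subgroup.coe_one]; exact congrArg Subtype.val hk)
    have h2 : (e ^ m * e ^ m) ^ 2 ^ a = 1 := by
      rw [← pow_add, ← pow_mul, add_mul, mul_comm m, ← ham, pow_add, pow_orderOf_eq_one, one_mul]
    exact orderOf_eq_one_iff.1 (Nat.eq_one_of_dvd_coprimes
      (Nat.Coprime.pow (2 ^ 1 * 0 + a) k (by norm_num : Nat.Coprime 2 3))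
      (by simpa using orderOf_dvd_of_pow_eq_one h2) (orderOf_dvd_of_pow_eq_one hk'))
  have ht2G : (t : G) * t = 1 := congrArg Subtype.val ht2
  have htinv : (t : G)⁻¹ = t := inv_eq_of_mul_eq_one_left ht2G
  have htρ₂ : ρ₂ t = -1 := by
    refine (eq_or_eq_neg_of_sq (by rw [← map_mul, ht2, map_one])).resolve_left fun h => ?_
    have := (hk₁ t).2 ((hk₂ t).1 h)
    rw [htρ] at this
    exact neg_one_ne_one this
  -- the decomposition of `W`
  have hWp : ∀ w ∈ W, w ^ 3 = 1 := fun w hw => omegaOneCenter_pow Q hw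
  have hWW : ∀ a ∈ W, ∀ b ∈ W, a * b = b * a := fun a ha b hb => omegaOneCenter_comm Q ha hb
  let W₁ : Subgroup G :=
    { carrier := {x | ∃ w ∈ W, (t : G) * w * (t : G)⁻¹ * w⁻¹ = x}
      one_mem' := ⟨1, one_mem _, by simp⟩
      mul_mem' := by
        rintro _ _ ⟨w, hw, rfl⟩ ⟨w', hw', rfl⟩
        refine ⟨w * w', mul_mem hw hw', ?_⟩
        have htw : ∀ x ∈ W, (t : G) * x * (t : G)⁻¹ ∈ W := fun x hx =>
          (Subgroup.mem_normalizer_iff.1 (hEW t.2) x).1 hx
        calc (t : G) * (w * w') * (t : G)⁻¹ * (w * w')⁻¹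
            = (t : G) * w * (t : G)⁻¹ * ((t : G) * w' * (t : G)⁻¹ * w'⁻¹) * w⁻¹ := by group
          _ = (t : G) * w * (t : G)⁻¹ * (w⁻¹ * ((t : G) * w' * (t : G)⁻¹ * w'⁻¹)) := by
              rw [mul_assoc, hWW ((t : G) * w' * (t : G)⁻¹ * w'⁻¹) (mul_mem (htw w' hw') (inv_mem hw')) w⁻¹ (inv_mem hw)]
          _ = (t : G) * w * (t : G)⁻¹ * w⁻¹ * ((t : G) * w' * (t : G)⁻¹ * w'⁻¹) := by rw [← mul_assoc]
      inv_mem' := by
        rintro _ ⟨w, hw, rfl⟩
        refine ⟨w⁻¹, inv_mem hw, ?_⟩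
        have h1 := hWW ((t : G) * w⁻¹ * (t : G)⁻¹) ((Subgroup.mem_normalizer_iff.1 (hEW t.2) _).1 (inv_mem hw)) w hw
        calc (t : G) * w⁻¹ * (t : G)⁻¹ * w⁻¹⁻¹ = w * ((t : G) * w⁻¹ * (t : G)⁻¹) := by rw [inv_inv, h1]
          _ = ((t : G) * w * (t : G)⁻¹ * w⁻¹)⁻¹ := by group }
  have hW₁inv : ∀ x ∈ W₁, (t : G) * x * (t : G)⁻¹ = x⁻¹ := by
    rintro _ ⟨w, hw, rfl⟩
    rw [htinv]
    have e1 : (t : G) * ((t : G) * w * t * w⁻¹) * t = (t : G) * t * (w * t * w⁻¹ * t) := by group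
    rw [e1, ht2G, one_mul, show ((t : G) * w * t * w⁻¹)⁻¹ = w * (t : G)⁻¹ * w⁻¹ * (t : G)⁻¹ by group, htinv]
  have hUW₁ : U ≤ W₁ := by
    rw [← hUeq, Subgroup.commutator_le]
    intro w hw e he
    -- split off the fixed part
    set d := (t : G) * w * (t : G)⁻¹ * w⁻¹ with hd
    have hdW : d ∈ W := mul_mem ((Subgroup.mem_normalizer_iff.1 (hEW t.2) w).1 hw) (inv_mem hw)
    have hd₁ : d ∈ W₁ := ⟨w, hw, rfl⟩
    have hfix : (t : G) * (d⁻¹ * w) * (t : G)⁻¹ = d⁻¹ * w := by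
      have h3 := hWp d hdW
      rw [pow_succ, pow_two] at h3
      calc (t : G) * (d⁻¹ * w) * (t : G)⁻¹ = ((t : G) * d * (t : G)⁻¹)⁻¹ * (d * w) := by rw [hd]; group
        _ = d * d * d * (d⁻¹ * w) := by rw [hW₁inv d hd₁]; group
        _ = d⁻¹ * w := by rw [h3, one_mul]
    have hw0 : d⁻¹ * w ∈ Z := by
      have hm : d⁻¹ * w ∈ W := mul_mem (inv_mem hdW) hw
      refine (hker₁ ⟨_, hm⟩).1 ?_
      obtain ⟨w', hw', hv⟩ := heq₁ t ⟨_, hm⟩
      rw [htρ, neg_mulVec, show w' = ⟨_, hm⟩ from Subtype.ext (hw'.trans hfix)] at hv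
      refine Multiplicative.toAdd.injective ?_
      rw [toAdd_one]
      funext i
      have hvi := congrFun hv i
      rw [Pi.neg_apply] at hvi
      have h3 := three_eq_zero (F := F)
      show _ = (0 : F)
      linear_combination -hvi + ((ψ₁ ⟨_, hm⟩).toAdd i) * h3
    have he0 : ⁅w, e⁆ = ⁅d, e⁆ := by
      have hce : (d⁻¹ * w) * e = e * (d⁻¹ * w) := (Subgroup.mem_centralizer_iff.1 hw0.2 e he).symm
      calc ⁅w, e⁆ = d * ((d⁻¹ * w) * e * (d⁻¹ * w)⁻¹) * d⁻¹ * e⁻¹ := by simp only [commutatorElement_def]; group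
        _ = d * e * d⁻¹ * e⁻¹ := by rw [hce, mul_inv_cancel_right]
        _ = ⁅d, e⁆ := (commutatorElement_def _ _).symm
    rw [he0, commutatorElement_def, show d * e * d⁻¹ * e⁻¹ = d * (e * d⁻¹ * e⁻¹) by group]
    refine mul_mem hd₁ ?_
    obtain ⟨w', hw', hwd⟩ := inv_mem hd₁
    refine ⟨e * w' * e⁻¹, (Subgroup.mem_normalizer_iff.1 (hEW he) w').1 hw', ?_⟩
    have hq : ((⁅(⟨e, he⟩ : E), t⁆ : E) : G) ∈ Q := (hk₁ _).1 (by
      rw [map_commutatorElement, htρ, commutatorElement_eq_one_iff_mul_comm, mul_neg_one, neg_one_mul])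
    have hqc : ∀ x ∈ W, ((⁅(⟨e, he⟩ : E), t⁆ : E) : G) * x * ((⁅(⟨e, he⟩ : E), t⁆ : E) : G)⁻¹ = x :=
      fun x hx => by rw [← hWc x hx _ hq, mul_inv_cancel_right]
    rw [← hwd]
    have hm : (t : G) * (e * w' * e⁻¹) * (t : G)⁻¹ ∈ W :=
      (Subgroup.mem_normalizer_iff.1 (hEW t.2) _).1 ((Subgroup.mem_normalizer_iff.1 (hEW he) w').1 hw')
    have := hqc _ hm
    rw [commutatorElement_def, Subgroup.coe_mul, Subgroup.coe_mul, Subgroup.coe_mul, Subgroup.coe_inv,
      Subgroup.coe_inv] at this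
    calc (t : G) * (e * w' * e⁻¹) * (t : G)⁻¹ * (e * w' * e⁻¹)⁻¹
        = (e * (t : G) * e⁻¹ * (t : G)⁻¹ * ((t : G) * (e * w' * e⁻¹) * (t : G)⁻¹) *
            (e * (t : G) * e⁻¹ * (t : G)⁻¹)⁻¹) * (e * w' * e⁻¹)⁻¹ := by rw [this]
      _ = e * ((t : G) * w' * (t : G)⁻¹ * w'⁻¹) * e⁻¹ := by group
  have hUZ : U ⊓ Z = ⊥ := by
    refine (Subgroup.eq_bot_iff_forall _).2 fun u hu => ?_
    obtain ⟨huU, huZ⟩ := Subgroup.mem_inf.1 hu
    have h1 := hW₁inv u (hUW₁ huU)
    rw [Subgroup.mem_centralizer_iff.1 huZ.2 t t.2, mul_inv_cancel_right] at h1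
    exact Exc.eq_one_of_sq (hWp u huZ.1) (mul_eq_one_iff_eq_inv.2 h1)
  -- `Q` lies in `O`
  have hQsup : (O ⊓ E) ⊔ W = Q := by
    have hsup : E ≤ Subgroup.normalizer (((O ⊓ E) ⊔ W : Subgroup G) : Set G) := fun e he => by
      rw [Subgroup.mem_normalizer_iff_map_conj_eq, Subgroup.map_sup,
        Subgroup.mem_normalizer_iff_map_conj_eq.1 (hEW he), Subgroup.map_inf _ _ _ (MulAut.conj e).injective,
        Subgroup.mem_normalizer_iff_map_conj_eq.1 (Subgroup.le_normalizer he),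
        Subgroup.mem_normalizer_iff_map_conj_eq.1 (by rw [Subgroup.normalizer_eq_top_iff.2 hOn]; exact Subgroup.mem_top e)]
    rcases (section_irreducible_linear (F := F) ⟨hEQ, hWQ, ρ₂, ψ₂, hρ₂, hψ₂, hker₂, heq₂⟩).2 _ hsup le_sup_right
        (sup_le hOEQ hWQ) with h | h
    · exact absurd (Subgroup.commutator_le.2 fun o ho e he => h (Subgroup.mem_sup_left (hOconj o ho e he))) hnot
    · exact h
  have hUO : U ≤ O := by
    rw [hU, Subgroup.commutator_le]
    intro v hv e he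
    exact (Subgroup.mem_inf.1 (hOconj v (omegaOneCenter_le O hv) e he)).1
  have hZO : Z ≤ O := by
    rw [← hQQ, Subgroup.commutator_le]
    intro q hq q' hq'
    rw [← hQsup, ← SetLike.mem_coe, Subgroup.coe_mul_of_left_le_normalizer_right (O ⊓ E) W
      (fun x hx => hEW hx.2)] at hq hq'
    obtain ⟨a, ha, w, hw, rfl⟩ := hq
    obtain ⟨a', ha', w', hw', rfl⟩ := hq'
    have c1 : ∀ x ∈ Q, w * x = x * w := hWc w hw
    have c2 : ∀ x ∈ Q, w' * x = x * w' := hWc w' hw'
    have : ⁅a * w, a' * w'⁆ = ⁅a, a'⁆ := by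
      rw [commutatorElement_def, commutatorElement_def]
      calc a * w * (a' * w') * (a * w)⁻¹ * (a' * w')⁻¹
          = a * (w * (a' * w')) * w⁻¹ * a⁻¹ * w'⁻¹ * a'⁻¹ := by group
        _ = a * a' * (w' * a⁻¹) * w'⁻¹ * a'⁻¹ := by rw [c1 _ (mul_mem (hOEQ ha') (hWQ hw'))]; group
        _ = a * a' * a⁻¹ * a'⁻¹ := by rw [c2 _ (inv_mem (hOEQ ha))]; group
    rw [this, commutatorElement_def]
    exact mul_mem (mul_mem (mul_mem ha.1 ha'.1) (inv_mem ha.1)) (inv_mem ha'.1)
  have hWO : W ≤ O := hUZW ▸ sup_le hUO hZO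
  have hQO : Q ≤ O := hQsup ▸ sup_le inf_le_left hWO
  -- `O` centralizes `Q / W`
  have hOQn : O ≤ Subgroup.normalizer (Q : Set G) := hON.trans (normalizer_le_normalizer_pCoreOf E)
  have hOWn : O ≤ Subgroup.normalizer (W : Set G) := hOQn.trans (normalizer_le_normalizer_omegaOneCenter Q)
  have hQO' : ⁅Q, O⁆ ≤ W := by
    have hsupn : E ≤ Subgroup.normalizer ((⁅Q, O⁆ ⊔ W : Subgroup G) : Set G) := fun e he => by
      rw [Subgroup.mem_normalizer_iff_map_conj_eq, Subgroup.map_sup,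
        Subgroup.mem_normalizer_iff_map_conj_eq.1 (hEW he), Subgroup.map_commutator,
        Subgroup.mem_normalizer_iff_map_conj_eq.1 (hEQ he),
        Subgroup.mem_normalizer_iff_map_conj_eq.1 (by rw [Subgroup.normalizer_eq_top_iff.2 hOn]; exact Subgroup.mem_top e)]
    have hle : ⁅Q, O⁆ ≤ Q := Subgroup.commutator_le.2 fun q hq o ho => by
      rw [commutatorElement_def, show q * o * q⁻¹ * o⁻¹ = q * (o * q⁻¹ * o⁻¹) by group]
      exact mul_mem hq ((Subgroup.mem_normalizer_iff.1 (hOQn ho) _).1 (inv_mem hq))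
    rcases (section_irreducible_linear (F := F) ⟨hEQ, hWQ, ρ₂, ψ₂, hρ₂, hψ₂, hker₂, heq₂⟩).2 _ hsupn le_sup_right
        (sup_le hle hWQ) with h | h
    · exact le_sup_left.trans h
    exfalso
    haveI : Group.IsNilpotent O := hOp.isNilpotent
    have hstep : ∀ k, Q ≤ W ⊔ O.lowerCentralSeries k := by
      intro k
      induction k with
      | zero => rw [Subgroup.lowerCentralSeries_zero]; exact hQO.trans le_sup_right
      | succ k ih =>
        have hWO' : ∀ o ∈ O, o ∈ Subgroup.normalizer ((W ⊔ O.lowerCentralSeries (k + 1) : Subgroup G) : Set G) := by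
          intro o ho
          rw [Subgroup.mem_normalizer_iff_map_conj_eq, Subgroup.map_sup,
            Subgroup.mem_normalizer_iff_map_conj_eq.1 (hOWn ho),
            Subgroup.mem_normalizer_iff_map_conj_eq.1 (Subgroup.self_le_normalizer_lowerCentralSeries O (k + 1) ho)]
        refine h.ge.trans (sup_le ?_ le_sup_left)
        rw [Subgroup.commutator_le]
        intro q hq o ho
        have hq' := ih hq
        rw [← SetLike.mem_coe, Subgroup.coe_mul_of_left_le_normalizer_right W (O.lowerCentralSeries k)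
          (hWO.trans (Subgroup.self_le_normalizer_lowerCentralSeries O k))] at hq'
        obtain ⟨w, hw, g, hg, rfl⟩ := hq'
        have h1 : ⁅g, o⁆ ∈ O.lowerCentralSeries (k + 1) := Subgroup.commutator_mem_commutator hg ho
        show ⁅w * g, o⁆ ∈ _
        rw [show ⁅w * g, o⁆ = w * ⁅g, o⁆ * w⁻¹ * ⁅w, o⁆ by simp only [commutatorElement_def]; group]
        refine mul_mem ((Subgroup.mem_normalizer_iff.1 (hWO' w (hWO hw)) _).1 (Subgroup.mem_sup_right h1))
          (Subgroup.mem_sup_left ?_)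
        rw [commutatorElement_def, show w * o * w⁻¹ * o⁻¹ = w * (o * w⁻¹ * o⁻¹) by group]
        exact mul_mem hw ((Subgroup.mem_normalizer_iff.1 (hOWn ho) _).1 (inv_mem hw))
    obtain ⟨k, hk⟩ := (Subgroup.isNilpotent_iff_lowerCentralSeries O).1 inferInstance
    have := hstep k
    rw [hk, sup_bot_eq] at this
    exact hne this
  have hZcentral : ∀ z ∈ Z, ∀ o ∈ O, z * o = o * z := by
    intro z hz o ho
    suffices h : ⁅Q, Q⁆ ≤ Subgroup.centralizer ({o} : Set G) from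
      Subgroup.mem_centralizer_singleton_iff.1 (h (hQQ.symm ▸ hz))
    rw [Subgroup.commutator_le]
    intro q hq q' hq'
    rw [Subgroup.mem_centralizer_singleton_iff]
    have hstep : ∀ x ∈ Q, ∃ w ∈ W, o * x * o⁻¹ = w⁻¹ * x := fun x hx =>
      ⟨⁅x, o⁆, hQO' (Subgroup.commutator_mem_commutator hx ho), by rw [commutatorElement_def]; group⟩
    obtain ⟨w, hw, e1⟩ := hstep q hq
    obtain ⟨w', hw', e2⟩ := hstep q' hq'
    have key : o * ⁅q, q'⁆ * o⁻¹ = ⁅q, q'⁆ := by
      rw [show o * ⁅q, q'⁆ * o⁻¹ = ⁅o * q * o⁻¹, o * q' * o⁻¹⁆ by simp only [commutatorElement_def]; group,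
        e1, e2, commutatorElement_def, commutatorElement_def]
      calc w⁻¹ * q * (w'⁻¹ * q') * (w⁻¹ * q)⁻¹ * (w'⁻¹ * q')⁻¹
          = (w⁻¹ * (q * w'⁻¹ * q' * q⁻¹)) * w * q'⁻¹ * w' := by group
        _ = (q * w'⁻¹ * q' * q⁻¹) * w⁻¹ * w * q'⁻¹ * w' := by
            rw [hWc _ (inv_mem hw) _ (mul_mem (mul_mem (mul_mem hq (hWQ (inv_mem hw'))) hq') (inv_mem hq))]
        _ = q * w'⁻¹ * (q' * q⁻¹ * q'⁻¹) * w' := by group
        _ = q * ((q' * q⁻¹ * q'⁻¹) * w'⁻¹) * w' := by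
            rw [mul_assoc q, hWc _ (inv_mem hw') _ (mul_mem (mul_mem hq' (inv_mem hq)) (inv_mem hq'))]
        _ = q * q' * q⁻¹ * q'⁻¹ := by group
    exact (mul_inv_eq_iff_eq_mul.1 key).symm
  have hZV : Z ≤ V := fun z hz => mem_omegaOneCenter (hZO hz) (hZcentral z hz) (hWp z hz.1)
  have hUV : U ≤ V := by
    rw [hU, Subgroup.commutator_le]
    intro v hv e he
    rw [commutatorElement_def, show v * e * v⁻¹ * e⁻¹ = v * (e * v⁻¹ * e⁻¹) by group]
    exact mul_mem hv (hVn.conj_mem _ (inv_mem hv) e)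
  have hWV : W ≤ V := hUZW ▸ sup_le hUV hZV
  have hQV : ∀ x ∈ Q, x ∈ V → x ∈ W := fun x hx hxV =>
    mem_omegaOneCenter hx (fun y hy => hVc x hxV y (hQO hy)) (omegaOneCenter_pow O hxV)
  have hUQ : U ≤ Q := hUW.trans hWQ
  have hEU : E ≤ Subgroup.normalizer (U : Set G) := fun e he => by
    rw [Subgroup.mem_normalizer_iff_map_conj_eq, ← hUeq, Subgroup.map_commutator,
      Subgroup.mem_normalizer_iff_map_conj_eq.1 (hEW he),
      Subgroup.mem_normalizer_iff_map_conj_eq.1 (Subgroup.le_normalizer he)]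
  have hUZW' : ∀ x ∈ W, ∃ u ∈ U, ∃ z ∈ Z, x = u * z := by
    intro x hx
    have hn : U ≤ Subgroup.normalizer (Z : Set G) := fun u hu => by
      rw [Subgroup.mem_normalizer_iff]
      intro z
      constructor
      · intro hz
        rw [hWW u (hUW hu) z hz.1, mul_inv_cancel_right]; exact hz
      · intro hz
        have h2 : z = u⁻¹ * (u * z * u⁻¹) * u := by group
        rw [h2, hWW _ (inv_mem (hUW hu)) _ hz.1, inv_mul_cancel_right]
        exact hz
    rw [← hUZW, ← SetLike.mem_coe, Subgroup.coe_mul_of_left_le_normalizer_right U Z hn] at hx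
    obtain ⟨u, hu, z, hz, rfl⟩ := hx
    exact ⟨u, hu, z, hz, rfl⟩
  let ψU : U →* Multiplicative (Fin 2 → F) := ψ₁.comp (Subgroup.inclusion hUW)
  have hψU : Function.Bijective ψU := by
    constructor
    · rw [injective_iff_map_eq_one]
      intro u hu
      exact Subtype.ext ((Subgroup.eq_bot_iff_forall _).1 hUZ _
        (Subgroup.mem_inf.2 ⟨u.2, (hker₁ _).1 hu⟩))
    · intro m
      obtain ⟨w, hw⟩ := hψ₁ m
      obtain ⟨u, hu, z, hz, he⟩ := hUZW' w w.2
      refine ⟨⟨u, hu⟩, ?_⟩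
      have : w = (⟨u, hUW hu⟩ : W) * ⟨z, hz.1⟩ := Subtype.ext he
      rw [this, map_mul, (hker₁ ⟨z, hz.1⟩).2 hz, mul_one] at hw
      exact hw
  have hBQ : B ≤ Subgroup.normalizer (Q : Set G) := hBE.trans (normalizer_le_normalizer_pCoreOf E)
  have hBW : B ≤ Subgroup.normalizer (W : Set G) := hBQ.trans (normalizer_le_normalizer_omegaOneCenter Q)
  have hBU : B ≤ Subgroup.normalizer (U : Set G) := fun b hb => by
    rw [Subgroup.mem_normalizer_iff_map_conj_eq, ← hUeq, Subgroup.map_commutator,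
      Subgroup.mem_normalizer_iff_map_conj_eq.1 (hBW hb),
      Subgroup.mem_normalizer_iff_map_conj_eq.1 (hBE hb)]
  have hBZ : B ≤ Subgroup.normalizer (Z : Set G) := fun b hb => by
    rw [Subgroup.mem_normalizer_iff_map_conj_eq, hZ, Subgroup.map_inf _ _ _ (MulAut.conj b).injective,
      Subgroup.mem_normalizer_iff_map_conj_eq.1 (hBW hb),
      Subgroup.mem_normalizer_iff_map_conj_eq.1 (normalizer_le_normalizer_centralizer E (hBE hb))]
  have hBT : B ≤ (T : Subgroup G) := baumannSubgroupOf_le _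
  have hquad : ∃ a ∈ B, a ∉ Subgroup.centralizer (U : Set G) ∧ a ^ 3 = 1 ∧ ∀ u ∈ U, ⁅⁅u, a⁆, a⁆ = 1 := by
    -- a member of maximal rank moving the module
    obtain ⟨A, hA, hAU⟩ : ∃ A ∈ CfsgLib.LocalP.maxElemIn 3 (T : Subgroup G), ¬ A ≤ Subgroup.centralizer (U : Set G) := by
      by_contra h
      push Not at h
      refine hJne ?_
      rw [Subgroup.commutator_eq_bot_iff_le_centralizer, Subgroup.le_centralizer_iff,
        CfsgLib.LocalP.thompsonSubgroupOf_eq_sSup]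
      exact sSup_le h
    have hAB : A ≤ B := by
      refine le_trans ?_ (thompsonSubgroupOf_le_baumann (T : Subgroup G))
      rw [CfsgLib.LocalP.thompsonSubgroupOf_eq_sSup]
      exact le_sSup hA
    have hUT : U ≤ (T : Subgroup G) :=
      hUO.trans (hOp.le_sylow_of_normal T)
    set P := U ⊔ B with hP
    have hPT : P ≤ (T : Subgroup G) := sup_le hUT hBT
    have hUP : U ≤ P := le_sup_left
    have hAP : A ≤ P := hAB.trans le_sup_right
    haveI : (U.subgroupOf P).Normal :=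
      Subgroup.normal_subgroupOf_of_le_normalizer (sup_le Subgroup.le_normalizer hBU)
    have hUel : IsElementaryAbelian 3 (U.subgroupOf P) := CfsgLib.LocalP.isElementaryAbelian_of_map P.subtype
      P.subtype_injective (by
        rw [Subgroup.map_subgroupOf_eq_of_le hUP]
        exact CfsgLib.LocalP.isElementaryAbelian_iff.2
          ⟨fun a ha b hb => hWW a (hUW ha) b (hUW hb), fun a ha => hWp a (hUW ha)⟩)
    have hA' : A.subgroupOf P ∈ maxElementaryAbelianSubgroups 3 P := by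
      rw [CfsgLib.LocalP.maxElementaryAbelian_eq]
      refine ⟨le_top, CfsgLib.LocalP.isElementaryAbelian_of_map P.subtype P.subtype_injective (by
        rw [Subgroup.map_subgroupOf_eq_of_le hAP]; exact hA.2.1), fun X _ hXe => ?_⟩
      rw [← Subgroup.card_map_of_injective P.subtype_injective (K := X),
        Nat.card_congr (Subgroup.subgroupOfEquivOfLe hAP).toEquiv]
      exact hA.2.2 _ ((Subgroup.map_subtype_le _).trans hPT) (CfsgLib.LocalP.isElementaryAbelian_map _ hXe)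
    obtain ⟨hmem, hq2, hnt⟩ := Cfsg.Agent.S0607.result (U.subgroupOf P) hUel (A.subgroupOf P) hA'
    have h1 : ⁅U.subgroupOf P, A.subgroupOf P⁆ ≠ ⊥ := by
      rw [Ne, Subgroup.commutator_eq_bot_iff_le_centralizer]
      intro h
      refine hAU fun a ha => Subgroup.mem_centralizer_iff.2 fun u hu => ?_
      exact (congrArg Subtype.val (Subgroup.mem_centralizer_iff.1 (h (show (⟨u, hUP hu⟩ : P) ∈ U.subgroupOf P from hu))
        (⟨a, hAP ha⟩ : P) (show a ∈ A from ha))).symm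
    have h3 := hnt h1
    set A₀ := ⁅U.subgroupOf P, A.subgroupOf P⁆ ⊔ (A.subgroupOf P ⊓
      Subgroup.centralizer ((⁅U.subgroupOf P, A.subgroupOf P⁆ : Subgroup P) : Set P)) with hA₀
    rw [Ne, Subgroup.commutator_eq_bot_iff_le_centralizer, Subgroup.le_centralizer_iff,
      SetLike.not_le_iff_exists] at h3
    obtain ⟨a, haA, hac⟩ := h3
    rw [CfsgLib.LocalP.maxElementaryAbelian_eq] at hmem hA'
    have hA₁ : A₀.map P.subtype ∈ CfsgLib.LocalP.maxElemIn 3 (T : Subgroup G) := by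
      refine ⟨(Subgroup.map_subtype_le _).trans hPT, CfsgLib.LocalP.isElementaryAbelian_map _ hmem.2.1, fun X hX hXe => ?_⟩
      rw [Subgroup.card_map_of_injective P.subtype_injective, CfsgLib.LocalP.card_eq_of_mem hmem hA',
        Nat.card_congr (Subgroup.subgroupOfEquivOfLe hAP).toEquiv]
      exact hA.2.2 X hX hXe
    refine ⟨(a : G), thompsonSubgroupOf_le_baumann (T : Subgroup G) ?_, fun hc => hac ?_, ?_, fun u hu => ?_⟩
    · rw [CfsgLib.LocalP.thompsonSubgroupOf_eq_sSup]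
      exact le_sSup hA₁ ⟨a, haA, rfl⟩
    · exact Subgroup.mem_centralizer_iff.2 fun u hu => Subtype.ext (Subgroup.mem_centralizer_iff.1 hc u hu)
    · have := ((CfsgLib.LocalP.isElementaryAbelian_iff).1 hmem.2.1).2 a haA
      exact congrArg Subtype.val this
    · have h4 : ⁅⁅(⟨u, hUP hu⟩ : P), a⁆, a⁆ = 1 := by
        rw [← Subgroup.mem_bot, ← hq2]
        exact Subgroup.commutator_mem_commutator
          (Subgroup.commutator_mem_commutator (show u ∈ U from hu) haA) haA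
      have h5 := congrArg P.subtype h4
      rwa [map_commutatorElement, map_commutatorElement, map_one] at h5
  refine ⟨F, hF, Finite.of_fintype F,
    { O := O, V := V, Q := Q, U := U, Z := Z
      normal_O := hOn, normal_V := hVn, pgroup_O := hOp, self_centralizing := hG
      V_le := omegaOneCenter_le O, V_central := hVc, V_pow := fun v hv => omegaOneCenter_pow O hv
      Q_le := hQO, Q_le_E := hQle, U_le := hUV, Z_le := hZV, U_inf_Z := hUZ
      Q_inf_V := fun x hx hxV => hUZW' x (hQV x hx hxV)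
      U_le_Q := hUQ, Z_le_Q := inf_le_left.trans hWQ, E_norm_Q := hEQ, E_norm_U := hEU
      OE := fun o ho e he => hOEQ (hOconj o ho e he)
      OQ := fun q hq o ho => hWV (hQO' (Subgroup.commutator_mem_commutator hq ho))
      char3 := hchar
      VE := fun v hv e he => Subgroup.commutator_mem_commutator hv he
      comm_mem_Z := hQW, Z_eq := hQQ.ge
      card_Z := by rw [hcardZ, Nat.card_eq_fintype_card, hn]
      E_central_Z := fun e he z hz => Subgroup.mem_centralizer_iff.1 hz.2 e he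
      ρ := ρ₂, ψ := ψ₂, ρ_range := hρ₂, ψ_surj := hψ₂
      ψ_ker := fun q => (hker₂ q).trans ⟨fun h => hWV h, fun h => hQV q q.2 h⟩
      ρ_ker := hk₂
      ρ_ψ := fun e q q' h => by
        obtain ⟨w, hw, hv⟩ := heq₂ e q
        rwa [show w = q' from Subtype.ext (hw.trans h.symm)] at hv
      ρU := ρ₁, ψU := ψU, ρU_range := hρ₁, ψU_bij := hψU, ρU_ker := hk₁
      ρU_ψ := fun e u u' h => by
        obtain ⟨w, hw, hv⟩ := heq₁ e (Subgroup.inclusion hUW u)
        rwa [show w = Subgroup.inclusion hUW u' from Subtype.ext (hw.trans h.symm)] at hv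
      t := (t : G), t_mem := t.2, t_sq := ht2G, ρ_t := htρ₂, ρU_t := htρ
      pgroup_B := T.2.to_le hBT, B_norm_E := hBE, B_norm_Q := hBQ, B_norm_U := hBU, B_norm_Z := hBZ
      exists_quad := hquad
      nonquad := fun b hb hbU hall => by
        refine hnq b hb (fun hc => hbU (Subgroup.centralizer_le hUW hc)) ?_
        let S : Subgroup G :=
          { carrier := {y | y ∈ Q ∧ ⁅y, b⁆ ∈ Z}
            one_mem' := ⟨one_mem _, by rw [commutatorElement_one_left]; exact one_mem _⟩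
            mul_mem' := by
              rintro y y' ⟨hy, hy'⟩ ⟨hk, hk'⟩
              refine ⟨mul_mem hy hk, ?_⟩
              rw [show ⁅y * y', b⁆ = y * ⁅y', b⁆ * y⁻¹ * ⁅y, b⁆ by simp only [commutatorElement_def]; group,
                ← hWc _ hk'.1 y hy, mul_inv_cancel_right]
              exact mul_mem hk' hy'
            inv_mem' := by
              rintro y ⟨hy, hy'⟩
              refine ⟨inv_mem hy, ?_⟩
              rw [show ⁅y⁻¹, b⁆ = y⁻¹ * ⁅y, b⁆⁻¹ * y⁻¹⁻¹ by simp only [commutatorElement_def]; group,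
                ← hWc _ (inv_mem hy'.1) _ (inv_mem hy), mul_inv_cancel_right]
              exact inv_mem hy' }
        have hbS : b ∈ Subgroup.normalizer (S : Set G) := by
          have key : ∀ g : G, g ∈ Subgroup.normalizer (Q : Set G) → g ∈ Subgroup.normalizer (Z : Set G) → Commute g b →
              ∀ y ∈ S, g * y * g⁻¹ ∈ S := fun g hgQ hgZ hgb y hy => by
            refine ⟨(Subgroup.mem_normalizer_iff.1 hgQ y).1 hy.1, ?_⟩
            have hb' : b = g * b * g⁻¹ := by rw [hgb.eq, mul_inv_cancel_right]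
            rw [hb', ← conjugate_commutatorElement]
            exact (Subgroup.mem_normalizer_iff.1 hgZ _).1 hy.2
          rw [Subgroup.mem_normalizer_iff]
          exact fun y => ⟨key b (hBQ hb) (hBZ hb) (Commute.refl b) y, fun hy => by
            simpa [mul_assoc] using key b⁻¹ (inv_mem (hBQ hb)) (inv_mem (hBZ hb)) (Commute.refl b).inv_left _ hy⟩
        refine (Subgroup.commutator_mono (commutator_zpowers_le hbS fun q hq => ?_) le_rfl).trans
          (commutator_zpowers_le (hBZ hb) fun y hy => hy.2)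
        refine ⟨?_, hall q hq⟩
        rw [commutatorElement_def, show q * b * q⁻¹ * b⁻¹ = q * (b * q⁻¹ * b⁻¹) by group]
        exact mul_mem hq ((Subgroup.mem_normalizer_iff.1 (hBQ hb) _).1 (inv_mem hq))
      norm_block := fun R hR hBR hER => le_normalizer_block T hres hcomm hR hBR hER
      norm_B := fun R x hR hBR hx => by
        obtain ⟨T', hT'⟩ := ((T.2.to_le hBT).to_sup_of_normal_right' hR hBR).exists_le_sylow
        obtain ⟨-, h1⟩ := eq_of_baumann_le T T' (le_sup_left.trans hT')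
        have hxT : ((x • T : Sylow 3 G) : Subgroup G) = (T : Subgroup G).map (MulAut.conj x).toMonoidHom := rfl
        have hle : baumannSubgroupOf 3 ((x • T : Sylow 3 G) : Subgroup G) ≤ (T' : Subgroup G) := by
          rw [hxT, map_baumannSubgroupOf]
          rintro _ ⟨b, hb, rfl⟩
          refine hT' ?_
          have := mul_mem (Subgroup.mem_sup_right (S := B) (hx b hb)) (Subgroup.mem_sup_left (T := R) hb)
          rwa [inv_mul_cancel_right] at this
        obtain ⟨-, h2⟩ := eq_of_baumann_le (x • T) T' hle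
        rw [Subgroup.mem_normalizer_iff_map_conj_eq]
        rw [hxT, map_baumannSubgroupOf] at h2
        exact h2.symm.trans h1 }, rfl, rfl, rfl, rfl, rfl⟩

/-- An exceptional block, not centralizing `O / W`, satisfies the working hypotheses on its module. -/
theorem exists_exc [Finite G] [Fact (Nat.Prime 3)]
    (hG : Subgroup.centralizer (pCore 3 G : Set G) ≤ pCore 3 G) (T : Sylow 3 G) {E : Subgroup G}
    (hE : IsBaumannBlock 3 (T : Subgroup G) E)
    (hnot : ¬ ⁅pCore 3 G, E⁆ ≤ omegaOneCenter 3 (pCoreOf 3 E)) :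
    ∃ (F : Type) (_ : Field F) (_ : Finite F) (D : Exc E (baumannSubgroupOf 3 (T : Subgroup G)) F),
      D.U = ⁅omegaOneCenter 3 (pCore 3 G), E⁆ := by
  obtain ⟨F, h1, h2, D, hD, -⟩ := exists_exc_full hG T hE hnot
  exact ⟨F, h1, h2, D, hD⟩

end CfsgLib.BaumannBlock.CentModule
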